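import Cfsg.Agent.FiLarge.Aut.Outer

/-!
The outer involution over the abelian subgroup: its conjugates centralising that subgroup are indexed by the points.
-/

set_option autoImplicit false
set_option quotPrecheck false
set_option linter.style.haveILetI false
set_option linter.unusedSectionVars false
set_option maxRecDepth 100000

namespace CfsgLib.FiLarge.AutM24

open CfsgLib Subgroup CfsgLib.FiLarge.Thom CfsgLib.FiLarge.U62 CfsgLib.FiLarge.Cent CfsgLib.FiLarge.Aut

variable {W : Type*} [Group W] [Finite W] {G₀ : Subgroup W} {z : ↥G₀}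
  {Q : Subgroup (centralizer ({z} : Set ↥G₀))} [Q.Normal] {D : Dat z Q}

local notation "QG" => Q.map (Subgroup.subtype (centralizer ({z} : Set ↥G₀)))
local notation "NA" => normalizer (A0 D : Set ↥G₀)

/-- The outer involution centralising the even part, with the hypothesis on the whole group. -/
structure Out (X : Ctx D) (d : W) : Prop where
  idx : G₀.index = 2
  sq : d * d = 1
  notMem : d ∉ G₀
  cz : Commute d (z : W)
  even : ∀ k ∈ M1 X, Commute d (k : W)
  only : ∀ g ∈ Mt X, Commute d (g : W) → g ∈ M1 X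
  move : ∃ m : ↥NA, pp X m ptA = ptA ∧ pp X m ptB = ptC ∧ Commute d ((m : ↥G₀) : W)
  fstar : (Cfsg.generalizedFittingSubgroup ↥(centralizer ({(z : W)} : Set W))).map (Subgroup.subtype _) =
    (QG).map G₀.subtype

/-- A fourth point. -/
def ptE : Cfsg.GolayPt := Golay.pt 3

theorem ptE_ne : ptE ≠ ptA ∧ ptE ≠ ptB ∧ ptE ≠ ptC := by decide +kernel

/-- The involution of a pair, in the whole group. -/
noncomputable abbrev ll (X : Ctx D) (p q : Cfsg.GolayPt) : W := ((X.L.lab p q : ↥G₀) : W)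

/-- The small involution at the first two points, in the whole group. -/
noncomputable abbrev jj (X : Ctx D) : W := ((tt X : ↥G₀) : W)

/-- The outer involution of a point. -/
noncomputable def wp (X : Ctx D) (d : W) (p : Cfsg.GolayPt) : W := d * ll X ptA p

theorem third (p q : Cfsg.GolayPt) : ∃ r : Cfsg.GolayPt, r ≠ p ∧ r ≠ q := by
  classical
  obtain ⟨r, -, hr⟩ := Finset.exists_mem_notMem_of_card_lt_card
    (show ({p, q} : Finset Cfsg.GolayPt).card < (Finset.univ : Finset Cfsg.GolayPt).card from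
      lt_of_le_of_lt Finset.card_le_two (by rw [Finset.card_univ, Golay.card_golayPt]; norm_num))
  simp only [Finset.mem_insert, Finset.mem_singleton, not_or] at hr
  exact ⟨r, hr⟩

section pairs

variable (X : Ctx D)

theorem exists_two {p q p' q' : Cfsg.GolayPt} (h : p ≠ q) (h' : p' ≠ q') :
    ∃ n : ↥NA, pp X n p = p' ∧ pp X n q = q' := by
  obtain ⟨r, r1, r2⟩ := third p q
  obtain ⟨r', r1', r2'⟩ := third p' q'
  obtain ⟨n, h1, h2, -⟩ := exists_three X h r2.symm r1.symm h' r2'.symm r1'.symm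
  exact ⟨n, h1, h2⟩

theorem exists_to (p : Cfsg.GolayPt) : ∃ n : ↥NA, pp X n ptA = p := by
  obtain ⟨r, r1, -⟩ := third p p
  obtain ⟨n, h, -⟩ := exists_two X abc_ne.1 r1.symm
  exact ⟨n, h⟩

theorem fix_move {x y : Cfsg.GolayPt} (hx : x ≠ ptA) (hy : y ≠ ptA) :
    ∃ k : ↥NA, pp X k ptA = ptA ∧ pp X k x = y :=
  exists_two X hx.symm hy.symm

/-- An element of the normaliser fixing the first two points is even. -/
theorem mem_M1_of_fix {n : ↥NA} (ha : pp X n ptA = ptA) (hb : pp X n ptB = ptB) : (n : ↥G₀) ∈ M1 X := by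
  classical
  obtain ⟨n1, n2, n3⟩ := abc_ne
  by_cases hc : pp X n ptC = ptC
  · exact C_le_M1 X (mem_C_of_fix X ha hb hc)
  set x := pp X n ptC with hxdef
  have hxA : x ≠ ptA := fun e => n3 ((pp X n).injective (ha.trans e.symm))
  have hxB : x ≠ ptB := fun e => n2 ((pp X n).injective (hb.trans e.symm))
  obtain ⟨y, -, hy⟩ := Finset.exists_mem_notMem_of_card_lt_card
    (show ({ptA, ptB, ptC, x} : Finset Cfsg.GolayPt).card < (Finset.univ : Finset Cfsg.GolayPt).card from
      lt_of_le_of_lt Finset.card_le_four (by rw [Finset.card_univ, Golay.card_golayPt]; norm_num))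
  simp only [Finset.mem_insert, Finset.mem_singleton, not_or] at hy
  obtain ⟨g, g1, g2, g3, g4⟩ := move_four (a := ptA) (b := ptB) (c := y) (e := ptC) (a' := ptA) (b' := ptB)
    (c' := y) (e' := x) (by simp [n1, n2, n3, Ne.symm hy.1, Ne.symm hy.2.1, hy.2.2.1])
    (by simp [n1, hxA.symm, hxB.symm, Ne.symm hy.1, Ne.symm hy.2.1, hy.2.2.2])
  obtain ⟨h, hh⟩ := X.L.surj g
  subst hh
  have hhM : (h : ↥G₀) ∈ Mt X := mem_Mt_of_fix X g1 g2
  have hh1 : (h : ↥G₀) ∈ M1 X := (mem_M1 X).2 ⟨hhM, eps_of_fix X hhM hy.1 hy.2.1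
    (mul_inv_eq_iff_eq_mul.1 (by rw [X.L.conj, g2, g3]))⟩
  have hrest : ((h⁻¹ * n : ↥NA) : ↥G₀) ∈ X.C := by
    refine mem_C_of_fix X ?_ ?_ ?_
    · rw [pp_mul, ha, pp_inv X g1]
    · rw [pp_mul, hb, pp_inv X g2]
    · rw [pp_mul, ← hxdef, pp_inv X g4]
  have := mul_mem hh1 (C_le_M1 X hrest)
  rwa [← Subgroup.coe_mul, mul_inv_cancel_left] at this

theorem ll_ne_one {p q : Cfsg.GolayPt} (h : p ≠ q) : ll X p q ≠ 1 := fun e =>
  ((mem_nS D).1 (X.L.mem p q h)).2.1 (Subtype.ext e)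

theorem ll_sq (p q : Cfsg.GolayPt) : ll X p q * ll X p q = 1 := congrArg Subtype.val (X.lab_mul_self p q)

theorem ll_trans (p q r : Cfsg.GolayPt) : ll X p q * ll X q r = ll X p r := congrArg Subtype.val (X.L.trans p q r)

theorem ll_symm (p q : Cfsg.GolayPt) : ll X p q = ll X q p := congrArg Subtype.val (X.L.symm p q)

theorem ll_self (p : Cfsg.GolayPt) : ll X p p = 1 := congrArg Subtype.val (X.L.self p)

theorem ll_comm (p q r t : Cfsg.GolayPt) : Commute (ll X p q) (ll X r t) :=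
  congrArg Subtype.val (X.comm (X.lab_A0 p q) (X.lab_A0 r t)).eq

theorem ll_conj (n : ↥NA) (p q : Cfsg.GolayPt) :
    ((n : ↥G₀) : W) * ll X p q * ((n : ↥G₀) : W)⁻¹ = ll X (pp X n p) (pp X n q) :=
  congrArg Subtype.val (X.L.conj n p q)

include X in
/-- An octad through the first point avoiding the two others. -/
theorem exists_octad_avoid {r₁ r₂ r₃ : Cfsg.GolayPt} (h12 : r₁ ≠ r₂) (h23 : r₂ ≠ r₃) (h13 : r₁ ≠ r₃) :
    ∃ o ∈ Cfsg.octads, r₁ ∈ o ∧ r₂ ∉ o ∧ r₃ ∉ o := by
  classical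
  obtain ⟨o, ho, -⟩ := exists_octad (s := ∅) (by simp)
  have h8 := Golay.octad_card ho
  obtain ⟨p, hp⟩ := Finset.card_pos.1 (show 0 < o.card by omega)
  have hco : oᶜ.card = 16 := by rw [Finset.card_compl, h8, Golay.card_golayPt]
  obtain ⟨q, hq⟩ := Finset.card_pos.1 (show 0 < oᶜ.card by omega)
  obtain ⟨r, hr⟩ := Finset.card_pos.1 (show 0 < (oᶜ.erase q).card by rw [Finset.card_erase_of_mem hq]; omega)
  obtain ⟨hrq, hr⟩ := Finset.mem_erase.1 hr
  rw [Finset.mem_compl] at hq hr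
  obtain ⟨n, e1, e2, e3⟩ := exists_three X (a := p) (b := q) (c := r) (fun e => hq (e ▸ hp)) hrq.symm
    (fun e => hr (e ▸ hp)) h12 h23 h13
  refine ⟨o.image (pp X n), Steiner.mem_aut_iff.1 (Golay.M24_eq_octAut ▸ (X.L.φ n).2) o ho,
    Finset.mem_image.2 ⟨p, hp, e1⟩, ?_, ?_⟩
  · rw [← e2]; exact fun h => hq (Function.Injective.mem_finset_image (pp X n).injective |>.1 h)
  · rw [← e3]; exact fun h => hr (Function.Injective.mem_finset_image (pp X n).injective |>.1 h)

/-- A subgroup with the involutions of all pairs contains the abelian subgroup. -/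
theorem A0_le_of_labs {K : Subgroup ↥G₀} (h : ∀ p q, X.L.lab p q ∈ K) : A0 D ≤ K := by
  classical
  intro a ha
  by_cases h1 : a = 1
  · rw [h1]; exact one_mem _
  by_cases hz : IsConj z a
  · obtain ⟨s, hs, -, rfl⟩ := X.L.exists_four a ha hz ptA
    obtain ⟨p, hp⟩ := Finset.card_pos.1 (show 0 < s.card by omega)
    obtain ⟨q, hq⟩ := Finset.card_pos.1 (show 0 < (s.erase p).card by rw [Finset.card_erase_of_mem hp]; omega)
    obtain ⟨r, t, hrt, e⟩ := Finset.card_eq_two.1 (show ((s.erase p).erase q).card = 2 by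
      rw [Finset.card_erase_of_mem hq, Finset.card_erase_of_mem hp]; omega)
    have hs' : s = insert p (insert q {r, t}) := by rw [← e, Finset.insert_erase hq, Finset.insert_erase hp]
    rw [hs', X.pair_union (Finset.ne_of_mem_erase hq).symm (by rw [← e]; simp)
      (by rw [← e]; exact Finset.notMem_erase _ _), X.L.pair r t hrt]
    exact mul_mem (h p q) (h r t)
  · obtain ⟨p, q, -, rfl⟩ := X.L.exists_pair a ((mem_nS D).2 ⟨ha, h1, hz⟩)
    exact h p q

/-- The pairs outside the three points suffice. -/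
theorem A0_le_of_outside {K : Subgroup ↥G₀} (h : ∀ p q, p ∉ abc → q ∉ abc → X.L.lab p q ∈ K) :
    A0 D ≤ K := by
  classical
  obtain ⟨n1, n2, n3⟩ := abc_ne
  have hev : ∀ k, ∀ s : Finset Cfsg.GolayPt, s.card = 2 * (k + 1) → (∀ p ∈ s, p ∉ abc) →
      X.L.ev s ∈ K := by
    intro k
    induction k with
    | zero =>
      intro s hs hout
      obtain ⟨p, q, hpq, rfl⟩ := Finset.card_eq_two.1 hs
      rw [X.L.pair p q hpq]
      exact h p q (hout p (by simp)) (hout q (by simp))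
    | succ k ih =>
      intro s hs hout
      obtain ⟨p, hp⟩ := Finset.card_pos.1 (show 0 < s.card by omega)
      obtain ⟨q, hq⟩ := Finset.card_pos.1 (show 0 < (s.erase p).card by rw [Finset.card_erase_of_mem hp]; omega)
      rw [← Finset.insert_erase hp, ← Finset.insert_erase hq, X.pair_union (Finset.ne_of_mem_erase hq).symm
        (by simp) (Finset.notMem_erase _ _)]
      refine mul_mem (h p q (hout p hp) (hout q (Finset.mem_of_mem_erase hq))) (ih _ ?_ ?_)
      · rw [Finset.card_erase_of_mem hq, Finset.card_erase_of_mem hp]; omega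
      · exact fun r hr => hout r (Finset.mem_of_mem_erase (Finset.mem_of_mem_erase hr))
  have one : ∀ r₁ r₂ r₃, ({r₁, r₂, r₃} : Finset Cfsg.GolayPt) = abc → r₁ ≠ r₂ → r₂ ≠ r₃ → r₁ ≠ r₃ →
      ∀ q, q ∉ abc → X.L.lab r₁ q ∈ K := by
    intro r₁ r₂ r₃ he h12 h23 h13 q hq
    obtain ⟨o, ho, o1, o2, o3⟩ := exists_octad_avoid X h12 h23 h13
    have h8 := Golay.octad_card ho
    obtain ⟨p, hp⟩ := Finset.card_pos.1 (show 0 < (o.erase r₁).card by rw [Finset.card_erase_of_mem o1]; omega)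
    obtain ⟨hp1, hpo⟩ := Finset.mem_erase.1 hp
    have hout : ∀ x ∈ o, x ≠ r₁ → x ∉ abc := fun x hx hx1 hxabc => by
      rw [← he] at hxabc
      simp only [Finset.mem_insert, Finset.mem_singleton] at hxabc
      rcases hxabc with rfl | rfl | rfl
      exacts [hx1 rfl, o2 hx, o3 hx]
    have hrest : X.L.lab r₁ p = X.L.ev ((o.erase r₁).erase p) := by
      have e : symmDiff o ({r₁, p} : Finset Cfsg.GolayPt) = (o.erase r₁).erase p := by
        ext x
        simp only [Finset.mem_symmDiff, Finset.mem_insert, Finset.mem_singleton, Finset.mem_erase]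
        constructor
        · rintro (⟨h1, h2⟩ | ⟨h1 | h1, h2⟩)
          · exact ⟨fun e => h2 (Or.inr e), fun e => h2 (Or.inl e), h1⟩
          · exact absurd (h1 ▸ o1) h2
          · exact absurd (h1 ▸ hpo) h2
        · rintro ⟨h1, h2, h3⟩
          exact Or.inl ⟨h3, fun q => q.elim h2 h1⟩
      rw [← e, X.L.ev_add, X.L.octad o ho, one_mul, X.L.pair _ _ hp1.symm]
    rw [← X.L.trans r₁ p q]
    refine mul_mem (hrest ▸ hev 2 _ ?_ ?_) (h p q (hout p hpo hp1) hq)
    · rw [Finset.card_erase_of_mem hp, Finset.card_erase_of_mem o1]; omega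
    · exact fun x hx => hout x (Finset.mem_of_mem_erase (Finset.mem_of_mem_erase hx))
        (Finset.ne_of_mem_erase (Finset.mem_of_mem_erase hx))
  have any : ∀ p q, q ∉ abc → X.L.lab p q ∈ K := by
    intro p q hq
    by_cases hp : p ∈ abc
    · have hp' : p = ptA ∨ p = ptB ∨ p = ptC := by
        by_contra hno
        simp only [not_or] at hno
        exact isPoint_iff.1 hno hp
      rcases hp' with rfl | rfl | rfl
      · exact one ptA ptB ptC rfl n1 n2 n3 q hq
      · exact one ptB ptA ptC (Finset.insert_comm _ _ _) n1.symm n3 n2 q hq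
      · refine one ptC ptA ptB ?_ n3.symm n1 n2.symm q hq
        show _ = ({ptA, ptB, ptC} : Finset Cfsg.GolayPt)
        ext x; simp only [Finset.mem_insert, Finset.mem_singleton]; tauto
    · exact h p q hp hq
  refine A0_le_of_labs X fun p q => ?_
  obtain ⟨r, -, hr⟩ := Finset.exists_mem_notMem_of_card_lt_card
    (show abc.card < (Finset.univ : Finset Cfsg.GolayPt).card by
      rw [card_abc, Finset.card_univ, Golay.card_golayPt]; norm_num)
  rw [← X.L.trans p r q, X.L.symm r q]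
  exact mul_mem (any p r hr) (any q r hr)

end pairs

variable {X : Ctx D} {d : W} (O : Out X d)

include O

theorem normalG : G₀.Normal := normal_of_index_eq_two O.idx

theorem mul_mem_out {x y : W} (hx : x ∉ G₀) (hy : y ∉ G₀) : x * y ∈ G₀ :=
  (mul_mem_iff_of_index_two O.idx).2 ⟨fun h => absurd h hx, fun h => absurd h hy⟩

theorem d_mul_mem {x : W} (hx : x ∉ G₀) : d * x ∈ G₀ := mul_mem_out O O.notMem hx

theorem d_mul_d (x : W) : d * (d * x) = x := by rw [← mul_assoc, O.sq, one_mul]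

theorem conj_notMem (g : W) {x : W} (hx : x ∉ G₀) : g * x * g⁻¹ ∉ G₀ := fun h => hx (by
  have := (normalG O).conj_mem _ h g⁻¹
  simpa [mul_assoc] using this)

theorem commute_A0 {a : ↥G₀} (ha : a ∈ A0 D) : Commute d (a : W) := O.even a (C_le_M1 X (X.A0_le_C ha))

theorem commute_ll (p q : Cfsg.GolayPt) : Commute d (ll X p q) := commute_A0 O (X.lab_A0 p q)

theorem commute_jj : Commute d (jj X) := O.even _ (tt_M1 X)

/-- The conjugates of the centre in the subgroup of index two. -/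
theorem isConj_val {v : ↥G₀} : IsConj (z : W) (v : W) ↔ IsConj z v := by
  refine ⟨fun h => ?_, fun h => G₀.subtype.map_isConj h⟩
  obtain ⟨g, hg⟩ := isConj_iff.1 h
  by_cases hgG : g ∈ G₀
  · exact isConj_iff.2 ⟨⟨g, hgG⟩, Subtype.ext hg⟩
  refine isConj_iff.2 ⟨⟨g * d, mul_mem_out O hgG O.notMem⟩, Subtype.ext ?_⟩
  show g * d * (z : W) * (g * d)⁻¹ = v
  rw [← hg, show g * d * (z : W) * (g * d)⁻¹ = g * (d * (z : W) * d⁻¹) * g⁻¹ by group, O.cz.eq,
    mul_inv_cancel_right]

/-- An outer element centralising the even part. -/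
theorem outer_M1 {e : W} (he : e ∉ G₀) (hc : ∀ k ∈ M1 X, Commute e (k : W)) : e = d ∨ e = d * jj X := by
  set v : ↥G₀ := ⟨d * e, d_mul_mem O he⟩
  have hv : ∀ k ∈ M1 X, v * k = k * v := fun k hk => Subtype.ext ((O.even k hk).mul_left (hc k hk)).eq
  have hvM := M1_cent X ((mem_Mt X).2 (hv _ (tt_M1 X))) hv
  have hvc : (⟨v, hvM⟩ : ↥(M1 X)) ∈ Subgroup.center ↥(M1 X) :=
    mem_center_iff.2 fun k => Subtype.ext (hv k k.2).symm
  rw [(M1_quasisimple X).2.1, mem_subgroupOf] at hvc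
  rcases (zpowers_tt X).1 hvc with q | q
  · left
    have q' : d * e = 1 := congrArg Subtype.val q
    rw [← d_mul_d O e, q', mul_one]
  · right
    have q' : d * e = jj X := congrArg Subtype.val q
    rw [← d_mul_d O e, q']

/-- The centraliser of the small involution permutes two conjugates. -/
theorem conj_pair {g : W} (hg : Commute g (jj X)) : g * d * g⁻¹ = d ∨ g * d * g⁻¹ = d * jj X := by
  haveI := normalG O
  refine outer_M1 O (conj_notMem O g O.notMem) fun k hk => ?_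
  let σ : MulAut ↥G₀ := MulAut.conjNormal g
  have hσ : σ (tt X) = tt X := Subtype.ext (mul_inv_eq_iff_eq_mul.2 hg.eq)
  have hσ' : σ⁻¹ (tt X) = tt X := σ.injective (by rw [MulAut.apply_inv_self, hσ])
  have h := (ThreeT.commute_conj_iff g _ _).2 (O.even _ (map_M1 X σ⁻¹ hσ' hk))
  rwa [show g * ((σ⁻¹ k : ↥G₀) : W) * g⁻¹ = ((σ (σ⁻¹ k) : ↥G₀) : W) from rfl, MulAut.apply_inv_self] at h

/-- The elements of the normaliser centralising the outer involution fix the first point. -/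
theorem commute_iff_fix {n : ↥NA} : Commute d ((n : ↥G₀) : W) ↔ pp X n ptA = ptA := by
  classical
  obtain ⟨n1, n2, n3⟩ := abc_ne
  let S : Subgroup ↥G₀ := (centralizer ({d} : Set W)).subgroupOf G₀
  have hS : ∀ x : ↥G₀, x ∈ S ↔ Commute d (x : W) := fun x => by
    rw [mem_subgroupOf, mem_centralizer_singleton_iff]; exact ⟨Eq.symm, Eq.symm⟩
  have key : ∀ k n : ↥NA, (k : ↥G₀) ∈ S → ((k⁻¹ * n : ↥NA) : ↥G₀) ∈ S → (n : ↥G₀) ∈ S := fun k n h1 h2 => by
    have := mul_mem h1 h2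
    rwa [← Subgroup.coe_mul, mul_inv_cancel_left] at this
  have hfix : ∀ n : ↥NA, pp X n ptA = ptA → (n : ↥G₀) ∈ S := by
    intro n ha
    by_cases hb : pp X n ptB = ptB
    · exact (hS _).2 (O.even _ (mem_M1_of_fix X ha hb))
    obtain ⟨m, mA, mB, hmd⟩ := O.move
    have hxA : pp X n ptB ≠ ptA := fun e => n1 ((pp X n).injective (ha.trans e.symm))
    obtain ⟨h, h1, h2, h3⟩ := exists_three X n1 n2 n3 n1 (Ne.symm hb) (Ne.symm hxA) (a' := ptA) (b' := ptB)
      (c' := pp X n ptB)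
    refine key (h * m) n (mul_mem ((hS _).2 (O.even _ (mem_M1_of_fix X h1 h2))) ((hS _).2 hmd))
      ((hS _).2 (O.even _ (mem_M1_of_fix X ?_ ?_)))
    · rw [pp_mul, ha, pp_inv X (p := ptA)]
      rw [pp_mul, mA, h1]
    · rw [pp_mul, pp_inv X (p := ptB)]
      rw [pp_mul, mB, h3]
  refine ⟨fun hnd => ?_, fun h => (hS _).1 (hfix n h)⟩
  by_contra hne
  have hall : NA ≤ S := by
    intro g hg
    set u : ↥NA := ⟨g, hg⟩
    show (u : ↥G₀) ∈ S
    by_cases hu : pp X u ptA = ptA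
    · exact hfix u hu
    obtain ⟨k, k1, k2⟩ := fix_move X hne hu
    refine key (k * n) u (mul_mem (hfix k k1) ((hS _).2 hnd)) (hfix _ ?_)
    rw [pp_mul, pp_inv X (p := ptA)]
    rw [pp_mul, k2]
  have hQS : QG ≤ S := (QG_le_N0 D).trans ((N0_le_normalizer D).trans hall)
  have hdF : (⟨d, mem_centralizer_singleton_iff.2 O.cz.eq⟩ : ↥(centralizer ({(z : W)} : Set W))) ∈
      centralizer (Cfsg.generalizedFittingSubgroup ↥(centralizer ({(z : W)} : Set W)) : Set _) := by
    refine mem_centralizer_iff.2 fun f hf => Subtype.ext ?_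
    have h1 : (f : W) ∈ (QG).map G₀.subtype := O.fstar ▸ mem_map_of_mem _ hf
    obtain ⟨y, hy, e⟩ := h1
    show (f : W) * d = d * f
    rw [← e]
    exact ((hS y).1 (hQS hy)).eq.symm
  obtain ⟨y, -, e⟩ : d ∈ (QG).map G₀.subtype :=
    O.fstar ▸ mem_map_of_mem _ (Comp.centralizer_Fstar_le hdF)
  exact O.notMem (e ▸ y.2)

/-- The conjugate by an element of the normaliser. -/
theorem conj_d (n : ↥NA) : ((n : ↥G₀) : W) * d * ((n : ↥G₀) : W)⁻¹ = wp X d (pp X n ptA) := by
  obtain ⟨n1, n2, n3⟩ := abc_ne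
  by_cases hn : pp X n ptA = ptA
  · rw [hn, wp, ll_self, mul_one, ← ((commute_iff_fix O).2 hn).eq, mul_inv_cancel_right]
  obtain ⟨s, s1, s2⟩ := exists_two X n1 n1.symm
  have hsj : Commute ((s : ↥G₀) : W) (jj X) := mul_inv_eq_iff_eq_mul.1 (by
    show ((s : ↥G₀) : W) * ll X ptA ptB * ((s : ↥G₀) : W)⁻¹ = ll X ptA ptB
    rw [ll_conj, s1, s2, ll_symm])
  have hs : ((s : ↥G₀) : W) * d * ((s : ↥G₀) : W)⁻¹ = d * jj X := (conj_pair O hsj).resolve_left fun e =>
    n1 (((commute_iff_fix O).1 (mul_inv_eq_iff_eq_mul.1 e).symm).symm.trans s1)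
  obtain ⟨k, k1, k2⟩ := fix_move X n1.symm hn
  have hd : Commute d (((k * s)⁻¹ * n : ↥NA) : ↥G₀) := (commute_iff_fix O).2 (by
    rw [pp_mul, pp_inv X (p := ptA)]
    rw [pp_mul, s1, k2])
  have e1 : ((n : ↥G₀) : W) = ((k : ↥G₀) : W) * ((s : ↥G₀) : W) * ((((k * s)⁻¹ * n : ↥NA) : ↥G₀) : W) := by
    push_cast
    group
  rw [e1]
  calc _ = ((k : ↥G₀) : W) * (((s : ↥G₀) : W) * (((((k * s)⁻¹ * n : ↥NA) : ↥G₀) : W) * d *
        ((((k * s)⁻¹ * n : ↥NA) : ↥G₀) : W)⁻¹) * ((s : ↥G₀) : W)⁻¹) * ((k : ↥G₀) : W)⁻¹ := by group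
    _ = ((k : ↥G₀) : W) * (d * ll X ptA ptB) * ((k : ↥G₀) : W)⁻¹ := by
      rw [← hd.eq, mul_inv_cancel_right, hs]
    _ = (((k : ↥G₀) : W) * d * ((k : ↥G₀) : W)⁻¹) *
        (((k : ↥G₀) : W) * ll X ptA ptB * ((k : ↥G₀) : W)⁻¹) := by group
    _ = wp X d (pp X n ptA) := by
      rw [← ((commute_iff_fix O).2 k1).eq, mul_inv_cancel_right, ll_conj, k1, k2]
      rfl

theorem wp_A : wp X d ptA = d := by rw [wp, ll_self, mul_one]

theorem wp_mem (p : Cfsg.GolayPt) : wp X d p ∈ conjugatesOf d := by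
  obtain ⟨n, rfl⟩ := exists_to X p
  exact isConj_iff.2 ⟨_, conj_d O n⟩

theorem wp_conj (n : ↥NA) (p : Cfsg.GolayPt) :
    ((n : ↥G₀) : W) * wp X d p * ((n : ↥G₀) : W)⁻¹ = wp X d (pp X n p) := by
  obtain ⟨m, rfl⟩ := exists_to X p
  rw [← conj_d O m, ← pp_mul, ← conj_d O (n * m)]
  push_cast
  group

theorem wp_mul (p q : Cfsg.GolayPt) : wp X d p * wp X d q = ll X p q := by
  rw [wp, wp, show d * ll X ptA p * (d * ll X ptA q) = d * (ll X ptA p * d) * ll X ptA q by group,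
    ← (commute_ll O ptA p).eq, d_mul_d O, ll_symm X ptA p, ll_trans]

theorem wp_comm (p q : Cfsg.GolayPt) : Commute (wp X d p) (wp X d q) := by
  show wp X d p * wp X d q = wp X d q * wp X d p
  rw [wp_mul O, wp_mul O, ll_symm]

theorem wp_ll (p q r : Cfsg.GolayPt) : Commute (wp X d p) (ll X q r) :=
  (commute_ll O q r).mul_left (ll_comm X _ _ _ _)

theorem wp_inj {p q : Cfsg.GolayPt} (h : wp X d p = wp X d q) : p = q := by
  by_contra hne
  refine ll_ne_one X hne ?_
  rw [← wp_mul O, ← h, wp_mul O, ll_self]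

/-- The centraliser of the abelian subgroup. -/
theorem cent_A0 {x : W} (hx : ∀ a ∈ A0 D, Commute x (a : W)) :
    (∃ a ∈ A0 D, x = (a : W)) ∨ ∃ a ∈ A0 D, x = d * (a : W) := by
  have key : ∀ v : ↥G₀, (∀ a ∈ A0 D, Commute (v : W) (a : W)) → v ∈ A0 D := fun v hv =>
    centralizer_A0_le D (mem_centralizer_iff.2 fun a ha => Subtype.ext (hv a ha).eq.symm)
  by_cases h : x ∈ G₀
  · exact Or.inl ⟨⟨x, h⟩, key ⟨x, h⟩ hx, rfl⟩
  · exact Or.inr ⟨⟨d * x, d_mul_mem O h⟩, key _ fun a ha => (commute_A0 O ha).mul_left (hx a ha),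
      (d_mul_d O x).symm⟩

end CfsgLib.FiLarge.AutM24
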