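import Cfsg.Agent.FiLarge.AutM24.Members

/-!
Any two members have a common commuting member; the members form a class of 3-transpositions generating the group.
-/

set_option autoImplicit false
set_option quotPrecheck false
set_option linter.style.haveILetI false
set_option linter.unusedSectionVars false
set_option maxRecDepth 100000

namespace CfsgLib.FiLarge.AutM24

open CfsgLib Subgroup CfsgLib.FiLarge.Thom CfsgLib.FiLarge.U62 CfsgLib.FiLarge.Cent CfsgLib.FiLarge.Aut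
open CfsgLib.TC23 (Rel)
open CfsgLib.ThreeT.Prod (nb)

variable {W : Type*} [Group W] [Finite W] {G₀ : Subgroup W} {z : ↥G₀}
  {Q : Subgroup (centralizer ({z} : Set ↥G₀))} [Q.Normal] {D : Dat z Q}

local notation "NA" => normalizer (A0 D : Set ↥G₀)

variable {X : Ctx D} {d : W} (O : Out X d)

include O

theorem wp_commute_d (p : Cfsg.GolayPt) : Commute (wp X d p) d := by
  have h := wp_comm O p ptA
  rwa [wp_A O] at h

theorem wp_commute_mul {a : ↥G₀} (ha : a ∈ A0 D) (p : Cfsg.GolayPt) : Commute (wp X d p) (d * (a : W)) :=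
  (wp_commute_d O p).mul_right ((commute_A0 O ha).mul_left
    (congrArg Subtype.val (X.comm (X.lab_A0 ptA p) ha).eq :))

/-- A member commuting with all pairs outside the three points belongs to a point. -/
theorem member_outside {x : W} (hx : x ∈ conjugatesOf d) (h : ∀ p, p ∉ abc → Commute x (wp X d p)) :
    ∃ p, x = wp X d p := by
  refine member_A0 O hx fun a ha => ?_
  let K : Subgroup ↥G₀ := (centralizer ({x} : Set W)).subgroupOf G₀
  have hK : A0 D ≤ K := A0_le_of_outside X fun p q hp hq => by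
    rw [mem_subgroupOf, mem_centralizer_singleton_iff]
    have h1 := (h p hp).mul_right (h q hq)
    rw [wp_mul O] at h1
    exact h1.eq.symm
  exact (mem_centralizer_singleton_iff.1 (mem_subgroupOf.1 (hK ha))).symm

/-- The members of the second sort above the standard outer involution. -/
theorem tri_points {x : W} (hx : x ∈ conjugatesOf d) (hc : Commute x (d * ll X ptB ptC))
    (hs : ¬ IsConj (z : W) (x * (d * ll X ptB ptC))) :
    x = wp X d ptA ∨ x = wp X d ptB ∨ x = wp X d ptC := by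
  obtain ⟨n1, n2, n3⟩ := abc_ne
  have hz : ∀ p, p ∉ abc → IsConj (z : W) (wp X d p * (d * ll X ptB ptC)) := by
    intro p hp
    obtain ⟨p1, p2, p3⟩ := isPoint_iff.2 hp
    rw [wp, show d * ll X ptA p * (d * ll X ptB ptC) = d * (ll X ptA p * d) * ll X ptB ptC by group,
      ← (commute_ll O _ _).eq, d_mul_d O]
    exact G₀.subtype.map_isConj (X.four_z
      (by simp [Finset.card_insert_of_notMem, n1, n2, n3, p1.symm, p2, p3]))
  have hout : ∀ p, p ∉ abc → Commute x (wp X d p) := fun p hp =>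
    (separate O _ (wp_mem O p) x hx (wp_commute_mul O (X.lab_A0 _ _) p).symm hc.symm (hz p hp) hs).symm
  obtain ⟨p, rfl⟩ := member_outside O hx hout
  by_contra hne
  refine hs (hz p fun hp => hne ?_)
  by_contra hno
  simp only [not_or] at hno
  exact isPoint_iff.1 ⟨fun e => hno.1 (by rw [e]), fun e => hno.2.1 (by rw [e]), fun e => hno.2.2 (by rw [e])⟩ hp

theorem wp_second_sort {p : Cfsg.GolayPt} (hp : p = ptA ∨ p = ptB ∨ p = ptC) :
    ¬ IsConj (z : W) (wp X d p * (d * ll X ptB ptC)) := by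
  obtain ⟨n1, n2, n3⟩ := abc_ne
  rw [wp, show d * ll X ptA p * (d * ll X ptB ptC) = d * (ll X ptA p * d) * ll X ptB ptC by group,
    ← (commute_ll O _ _).eq, d_mul_d O]
  rcases hp with rfl | rfl | rfl
  · rw [ll_self, one_mul]; exact ll_small O n2
  · rw [ll_trans]; exact ll_small O n3
  · rw [ll_symm X ptB ptC, ll_trans]; exact ll_small O n1

/-- From the base member to every member through a member of the three. -/
theorem path {e : W} (he : e ∈ conjugatesOf d) : ∃ w ∈ conjugatesOf d, Commute d w ∧ Rel d w e := by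
  set t := d * ll X ptB ptC with ht
  have htt : t * t = 1 := by
    rw [ht, (commute_ll O ptB ptC).symm.mul_mul_mul_comm d (ll X ptB ptC), O.sq, ll_sq, one_mul]
  obtain ⟨u, huu, hu1, hut, hue⟩ := exists_between O htt (bc_notMem O) he
  have himg : ∀ p, (p = ptA ∨ p = ptB ∨ p = ptC) → u * wp X d p * u⁻¹ = wp X d ptA ∨
      u * wp X d p * u⁻¹ = wp X d ptB ∨ u * wp X d p * u⁻¹ = wp X d ptC := by
    intro p hp
    refine tri_points O (E_conj O (wp_mem O p) u) ?_ fun q => wp_second_sort O hp (q.trans (isConj_iff.2 ⟨u⁻¹, ?_⟩))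
    · have h := (ThreeT.commute_conj_iff u _ _).2 (wp_commute_mul O (X.lab_A0 ptB ptC) p)
      rw [show u * (d * ((X.L.lab ptB ptC : ↥G₀) : W)) * u⁻¹ = t from (mul_inv_eq_iff_eq_mul.2 hut.eq)] at h
      exact h
    · rw [show u⁻¹ * (u * wp X d p * u⁻¹ * (d * ll X ptB ptC)) * u⁻¹⁻¹ =
        wp X d p * (u⁻¹ * t * u) by rw [ht]; group, mul_assoc u⁻¹ t u, ← hut.eq, inv_mul_cancel_left]
  suffices h : ∃ p, u * wp X d p * u⁻¹ = wp X d p by
    obtain ⟨p, hp⟩ := h
    exact ⟨_, wp_mem O p, (wp_commute_d O p).symm,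
      cross O huu hu1 (wp_mem O p) he (mul_inv_eq_iff_eq_mul.1 hp) hue⟩
  have back : ∀ a b : W, u * a * u⁻¹ = b → u * b * u⁻¹ = a := fun a b h => by
    rw [← h, show u * (u * a * u⁻¹) * u⁻¹ = (u * u) * a * (u * u)⁻¹ by group, huu]; group
  have hne : ∀ {p q : Cfsg.GolayPt}, p ≠ q → wp X d p ≠ wp X d q := fun h e => h (wp_inj O e)
  obtain ⟨n1, n2, n3⟩ := abc_ne
  rcases himg ptA (Or.inl rfl) with h | h | h
  · exact ⟨_, h⟩
  · refine ⟨ptC, ?_⟩
    rcases himg ptC (Or.inr (Or.inr rfl)) with k | k | k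
    · exact absurd ((back _ _ k).symm.trans h) (hne n2.symm)
    · exact absurd ((back _ _ k).symm.trans (back _ _ h)) (hne n3.symm)
    · exact k
  · refine ⟨ptB, ?_⟩
    rcases himg ptB (Or.inr (Or.inl rfl)) with k | k | k
    · exact absurd ((back _ _ k).symm.trans h) (hne n2)
    · exact k
    · exact absurd ((back _ _ k).symm.trans (back _ _ h)) (hne n1.symm)

theorem rel_step {x a y : W} (hx : x ∈ conjugatesOf d) (ha : a ∈ conjugatesOf d) (hy : y ∈ conjugatesOf d)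
    (hxa : Commute x a) (hR : Rel d a y) : Rel d x y := by
  by_cases hne : x = a
  · exact hne ▸ hR
  have htt : (x * a) * (x * a) = 1 := by
    rw [hxa.symm.mul_mul_mul_comm, E_sq O hx, E_sq O ha, one_mul]
  obtain ⟨u, huu, hu1, hut, huy⟩ :=
    exists_between O htt (fun h => E_notMem O h (mul_mem_out O (E_notMem O hx) (E_notMem O ha))) hy
  rcases swap_pair O hx ha hxa hne hut with e | e
  · exact cross O huu hu1 hx hy (mul_inv_eq_iff_eq_mul.1 e) huy
  · have := hR.conj u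
    rw [huy.eq, mul_inv_cancel_right] at this
    rwa [show u * a * u⁻¹ = x by
      rw [← e, inv_eq_of_mul_eq_one_right huu]
      calc u * (u * x * u) * u = (u * u) * x * (u * u) := by group
        _ = x := by rw [huu, one_mul, mul_one]] at this

/-- Any two members have a common commuting member. -/
theorem rel_all {x y : W} (hx : x ∈ conjugatesOf d) (hy : y ∈ conjugatesOf d) : Rel d x y := by
  obtain ⟨g, rfl⟩ := isConj_iff.1 hx
  have hy' : g⁻¹ * y * g ∈ conjugatesOf d := by simpa using E_conj O hy g⁻¹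
  obtain ⟨w, hw, hdw, hR⟩ := path O hy'
  have := (rel_step O (IsConj.refl d) hw hy' hdw hR).conj g
  simpa [mul_assoc] using this

theorem TY_props {s : W} (hs : s ∈ TY X d) :
    s ∈ G₀ ∧ Commute d s ∧ s ≠ 1 ∧ d * s ∈ conjugatesOf d := by
  obtain ⟨g, hg, rfl⟩ := hs
  refine ⟨(g * tt X * g⁻¹).2, (hg.mul_right (commute_jj O)).mul_right hg.inv_right, fun e => ?_, ?_⟩
  · exact ll_ne_one X abc_ne.1 (conj_eq_one_iff.1 e)
  · have h := E_conj O (d_jj_mem O) (g : W)
    rwa [show (g : W) * (d * jj X) * (g : W)⁻¹ = ((g : W) * d * (g : W)⁻¹) * ((g : W) * jj X * (g : W)⁻¹) by group,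
      ← hg.eq, mul_inv_cancel_right] at h

/-- The members commuting with the base member. -/
theorem nb_iff {x : W} : x ∈ nb (conjugatesOf d) d ↔ ∃ s ∈ TY X d, x = d * s := by
  constructor
  · rintro ⟨hx, hne, hc⟩
    obtain ⟨g, hg, rfl⟩ := member_nb O hx hc.symm hne
    refine ⟨(g : W) * jj X * (g : W)⁻¹, ⟨g, hg, rfl⟩, ?_⟩
    rw [show (g : W) * (d * jj X) * (g : W)⁻¹ = ((g : W) * d * (g : W)⁻¹) * ((g : W) * jj X * (g : W)⁻¹) by group,
      ← hg.eq, mul_inv_cancel_right]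
  · rintro ⟨s, hs, rfl⟩
    obtain ⟨-, hc, hne, hm⟩ := TY_props O hs
    exact ⟨hm, fun e => hne (mul_eq_left.1 e), (Commute.refl d).mul_right hc⟩

theorem mul_nb {s r : W} (hs : s ∈ TY X d) : d * s * (d * r) = s * r := by
  rw [show d * s * (d * r) = d * (s * d) * r by group, ← (TY_props O hs).2.1.eq, d_mul_d O]

theorem nb_commute_iff {s r : W} (hs : s ∈ TY X d) (hr : r ∈ TY X d) :
    Commute (d * s) (d * r) ↔ Commute s r := by
  show _ = _ ↔ _ = _
  rw [mul_nb O hs, mul_nb O hr]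

theorem cube {x y : W} (hx : x ∈ conjugatesOf d) (hy : y ∈ conjugatesOf d) (hc : ¬ Commute x y) :
    (x * y) ^ 3 = 1 := by
  obtain ⟨w, hw, h1, h2⟩ := rel_all O hx hy
  obtain ⟨g, rfl⟩ := isConj_iff.1 hw
  have key : ∀ v ∈ conjugatesOf d, Commute (g * d * g⁻¹) v → g * d * g⁻¹ ≠ v →
      ∃ s ∈ TY X d, g⁻¹ * v * g = d * s := by
    intro v hv hcv hne
    refine (nb_iff O).1 ⟨by simpa using E_conj O hv g⁻¹, fun e => hne (by rw [← e]; group), ?_⟩
    rw [← ThreeT.commute_conj_iff g]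
    simpa [mul_assoc] using hcv
  obtain ⟨s, hs, es⟩ := key x hx h1 fun e => hc (e ▸ h2)
  obtain ⟨r, hr, er⟩ := key y hy h2 fun e => hc (e ▸ h1.symm)
  obtain ⟨t, htj, hfi, -⟩ := exists_typeY O
  obtain ⟨s', hs', rfl⟩ := (mem_TY_iff O htj).1 hs
  obtain ⟨r', hr', rfl⟩ := (mem_TY_iff O htj).1 hr
  have e : g⁻¹ * (x * y) * g = (s' : W) * (r' : W) := by
    rw [show g⁻¹ * (x * y) * g = (g⁻¹ * x * g) * (g⁻¹ * y * g) by group, es, er, mul_nb O hs]
  have hcube : (s' * r') ^ 2 = 1 ∨ (s' * r') ^ 3 = 1 := hfi.cls.1.2 _ hs' _ hr'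
  rcases hcube with h | h
  · exfalso
    refine hc ((ThreeT.commute_conj_iff g⁻¹ _ _).1 ?_)
    rw [inv_inv, es, er, nb_commute_iff O hs hr]
    have hss : s' * s' = 1 := by rw [← pow_two, ← hfi.cls.1.1 _ hs', pow_orderOf_eq_one]
    have hrr : r' * r' = 1 := by rw [← pow_two, ← hfi.cls.1.1 _ hr', pow_orderOf_eq_one]
    have h' : s' * r' = r' * s' := by
      rw [pow_two, mul_eq_one_iff_eq_inv, mul_inv_rev, inv_eq_of_mul_eq_one_right hss,
        inv_eq_of_mul_eq_one_right hrr] at h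
      exact h
    exact (congrArg Subtype.val h' :)
  · have h3 : (g⁻¹ * (x * y) * g) ^ 3 = 1 := by
      rw [e]; exact (congrArg Subtype.val h :)
    rw [show g⁻¹ * (x * y) * g = g⁻¹ * (x * y) * g⁻¹⁻¹ by rw [inv_inv], conj_pow] at h3
    exact conj_eq_one_iff.1 h3

theorem tts : Cfsg.IsThreeTranspositionSet (conjugatesOf d) := by
  refine ⟨fun x hx => orderOf_eq_prime (by rw [pow_two]; exact E_sq O hx) fun e =>
    E_notMem O hx (e ▸ one_mem _), fun x hx y hy => ?_⟩
  by_cases hc : Commute x y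
  · left; rw [hc.mul_pow, pow_two, pow_two, E_sq O hx, E_sq O hy, one_mul]
  · exact Or.inr (cube O hx hy hc)

theorem exists_far : ∃ x ∈ conjugatesOf d, ¬ Commute d x := by
  obtain ⟨t, htj, hfi, -⟩ := exists_typeY O
  obtain ⟨c, hc, htc⟩ := hfi.exists_far (a := t) (IsConj.refl t)
  by_contra hno
  simp only [not_exists, not_and, not_not] at hno
  have h1 : jj X ∈ TY X d := (mem_TY_iff O htj).2 ⟨t, IsConj.refl t, htj⟩
  have h2 : (c : W) ∈ TY X d := (mem_TY_iff O htj).2 ⟨c, hc, rfl⟩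
  obtain ⟨g, hg⟩ := isConj_iff.1 (TY_props O h1).2.2.2
  have h3 := (ThreeT.commute_conj_iff g _ _).2 (hno _ (E_conj O (TY_props O h2).2.2.2 g⁻¹))
  rw [hg, show g * (g⁻¹ * (d * (c : W)) * g⁻¹⁻¹) * g⁻¹ = d * (c : W) by group, nb_commute_iff O h1 h2, ← htj] at h3
  exact htc (Subtype.ext h3.eq)

theorem closure_eq_top : Subgroup.closure (conjugatesOf d) = ⊤ := by
  classical
  set K := Subgroup.closure (conjugatesOf d) with hK
  have hmem : ∀ {v : W}, v ∈ conjugatesOf d → v ∈ K := fun h => Subgroup.subset_closure h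
  obtain ⟨t, htj, hfi, -⟩ := exists_typeY O
  have hYK : Yg G₀ d ≤ K := by
    have h : Subgroup.closure (conjugatesOf t) ≤ K.subgroupOf (Yg G₀ d) := (Subgroup.closure_le _).2 fun y hy => by
      show (y : W) ∈ K
      have h := (TY_props O ((mem_TY_iff O htj).2 ⟨y, hy, rfl⟩)).2.2.2
      rw [← d_mul_d O (y : W)]
      exact mul_mem (hmem (IsConj.refl d)) (hmem h)
    rw [hfi.gen] at h
    exact fun v hv => h (mem_top ⟨v, hv⟩)
  have hCK : ∀ {g : W}, Commute g d → g ∈ K := fun {g} hg => by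
    by_cases hgG : g ∈ G₀
    · exact hYK (mem_inf.2 ⟨hgG, mem_centralizer_singleton_iff.2 hg.eq⟩)
    · rw [← d_mul_d O g]
      exact mul_mem (hmem (IsConj.refl d)) (hYK (mem_inf.2
        ⟨d_mul_mem O hgG, mem_centralizer_singleton_iff.2 ((Commute.refl d).mul_left hg).eq⟩))
  have hnear : ∀ {a b : W}, a ∈ conjugatesOf d → b ∈ conjugatesOf d → ¬ Commute a b →
      ∃ g ∈ K, g * a * g⁻¹ = b := by
    intro a b ha hb hc
    obtain ⟨g, hg, e⟩ := conj_within O ha hb hc
    exact ⟨g, Subgroup.closure_mono (by rintro v (rfl | rfl) <;> assumption) hg, e⟩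
  obtain ⟨x, hx, hdx⟩ := exists_far O
  obtain ⟨f, hf, hfx⟩ : ∃ f ∈ nb (conjugatesOf d) d, ¬ Commute f x := by
    by_contra hno
    simp only [not_exists, not_and, not_not] at hno
    refine hdx ?_
    obtain ⟨p, rfl⟩ := member_outside O hx fun p hp => (hno _ ⟨wp_mem O p, fun e =>
      (isPoint_iff.2 hp).1 (wp_inj O (e.trans (wp_A O).symm)), (wp_commute_d O p).symm⟩).symm
    exact (wp_commute_d O p).symm
  have trans_nb : ∀ b ∈ nb (conjugatesOf d) d, ∃ c : W, Commute c d ∧ c * f * c⁻¹ = b := by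
    intro b hb
    obtain ⟨k, hk, rfl⟩ := member_nb O hb.1 hb.2.2.symm hb.2.1
    obtain ⟨k', hk', rfl⟩ := member_nb O hf.1 hf.2.2.symm hf.2.1
    exact ⟨(k : W) * (k' : W)⁻¹, hk.symm.mul_left hk'.symm.inv_left, by group⟩
  have hall : ∀ b ∈ conjugatesOf d, ∃ g ∈ K, g * d * g⁻¹ = b := by
    intro b hb
    by_cases hc : Commute d b
    · by_cases hbd : b = d
      · exact ⟨1, one_mem K, by rw [hbd]; group⟩
      obtain ⟨g, hg, e⟩ := hnear (IsConj.refl d) hx hdx
      obtain ⟨g', hg', e'⟩ := hnear hx hf.1 (fun q => hfx q.symm)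
      obtain ⟨c, hc', e''⟩ := trans_nb b ⟨hb, hbd, hc⟩
      exact ⟨c * g' * g, mul_mem (mul_mem (hCK hc') hg') hg, by rw [← e'', ← e', ← e]; group⟩
    · exact hnear (IsConj.refl d) hb hc
  rw [eq_top_iff]
  intro g _
  obtain ⟨k, hk, e⟩ := hall _ (isConj_iff.2 ⟨g, rfl⟩ : g * d * g⁻¹ ∈ conjugatesOf d)
  have hc : Commute (k⁻¹ * g) d := by
    refine mul_inv_eq_iff_eq_mul.1 ?_
    calc k⁻¹ * g * d * (k⁻¹ * g)⁻¹ = k⁻¹ * (g * d * g⁻¹) * k := by group
      _ = d := by rw [← e]; group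
  have := mul_mem hk (hCK hc)
  rwa [mul_inv_cancel_left] at this

theorem class3 : Cfsg.IsThreeTranspositionClass (conjugatesOf d) :=
  ⟨tts O, ⟨d, IsConj.refl d, rfl⟩, closure_eq_top O⟩

theorem center : Subgroup.center W = ⊥ := by
  refine eq_bot_iff.2 fun c hc => Subgroup.mem_bot.2 ?_
  have hcc : ∀ v : W, v * c = c * v := fun v => Subgroup.mem_center_iff.1 hc v
  obtain ⟨t, -, hfi, -⟩ := exists_typeY O
  have triv : ∀ v : W, v ∈ Yg G₀ d → (∀ y ∈ Yg G₀ d, y * v = v * y) → v = 1 := fun v hv h => by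
    have h1 : (⟨v, hv⟩ : ↥(Yg G₀ d)) ∈ Subgroup.center ↥(Yg G₀ d) :=
      Subgroup.mem_center_iff.2 fun y => Subtype.ext (h y y.2)
    rw [hfi.center, Subgroup.mem_bot] at h1
    exact congrArg Subtype.val h1
  by_cases hG : c ∈ G₀
  · exact triv c (mem_inf.2 ⟨hG, mem_centralizer_singleton_iff.2 (hcc d).symm⟩) fun y _ => hcc y
  exfalso
  have e : d * c = 1 := triv _ (mem_inf.2 ⟨d_mul_mem O hG, mem_centralizer_singleton_iff.2
      ((Commute.refl d).mul_left (hcc d).symm).eq⟩)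
    fun y hy => ((show Commute y d from mem_centralizer_singleton_iff.1 (mem_inf.1 hy).2).mul_right (hcc y)).eq
  have hcd : c = d := by rw [← d_mul_d O c, e, mul_one]
  obtain ⟨x, -, hdx⟩ := exists_far O
  exact hdx (hcd ▸ (hcc x).symm)

theorem nosol (N : Subgroup W) (hN : N.Normal) (hs : Group.IsSolvable N) : N = ⊥ := by
  haveI := normalG O
  obtain ⟨t, -, hfi, -⟩ := exists_typeY O
  -- no element inside commutes with the base member
  have hfix : ∀ n ∈ N, n ∈ G₀ → Commute n d → n = 1 := by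
    intro n hn hG hnd
    haveI := hN
    haveI : (N.subgroupOf (Yg G₀ d)).Normal := inferInstance
    haveI : Group.IsSolvable ↥(N.subgroupOf (Yg G₀ d)) :=
      Group.isSolvable_of_isSolvable_injective (f := ((Yg G₀ d).subtype.subgroupComap N))
        fun a b e => Subtype.ext (Subtype.ext (congrArg (fun v : ↥N => (v : W)) e))
    have h := hfi.sol (N.subgroupOf (Yg G₀ d)) inferInstance inferInstance
    have h1 : (⟨n, mem_inf.2 ⟨hG, mem_centralizer_singleton_iff.2 hnd.eq⟩⟩ : ↥(Yg G₀ d)) ∈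
        N.subgroupOf (Yg G₀ d) := hn
    rw [h, Subgroup.mem_bot] at h1
    exact congrArg Subtype.val h1
  have hinv : ∀ n ∈ N, n ∈ G₀ → d * n * d = n⁻¹ := by
    let M : Subgroup W := N ⊓ G₀
    have hMn : ∀ n ∈ M, d * n * d⁻¹ ∈ M := fun n hn =>
      mem_inf.2 ⟨hN.conj_mem n (mem_inf.1 hn).1 d, (normalG O).conj_mem n (mem_inf.1 hn).2 d⟩
    let φ : ↥M → ↥M := fun n => ⟨(n : W)⁻¹ * (d * n * d⁻¹), mul_mem (inv_mem n.2) (hMn n n.2)⟩
    have hinj : Function.Injective φ := fun a b e => by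
      have e' : (a : W)⁻¹ * (d * a * d⁻¹) = (b : W)⁻¹ * (d * b * d⁻¹) := congrArg Subtype.val e
      refine Subtype.ext (mul_inv_eq_one.1 (hfix _ (mem_inf.1 (mul_mem a.2 (inv_mem b.2))).1
        (mem_inf.1 (mul_mem a.2 (inv_mem b.2))).2 ?_))
      refine (mul_inv_eq_iff_eq_mul.1 ?_ : Commute d _).symm
      calc d * ((a : W) * (b : W)⁻¹) * d⁻¹ = (d * a * d⁻¹) * (d * b * d⁻¹)⁻¹ := by group
        _ = (a : W) * ((a : W)⁻¹ * (d * a * d⁻¹)) * ((b : W) * ((b : W)⁻¹ * (d * b * d⁻¹)))⁻¹ := by group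
        _ = (a : W) * (b : W)⁻¹ := by rw [e']; group
    intro m hm hmG
    obtain ⟨n, hn⟩ := (Finite.injective_iff_surjective.1 hinj) ⟨m, mem_inf.2 ⟨hm, hmG⟩⟩
    have hn' : (n : W)⁻¹ * (d * n * d⁻¹) = m := congrArg Subtype.val hn
    rw [← hn', dd_inv O]
    calc d * ((n : W)⁻¹ * (d * n * d)) * d = d * (n : W)⁻¹ * d * n * (d * d) := by group
      _ = _ := by rw [O.sq, mul_one, mul_inv_rev, inv_inv, mul_inv_rev, mul_inv_rev, dd_inv O, ← mul_assoc d]
  have hinv' : ∀ x ∈ conjugatesOf d, ∀ n ∈ N, n ∈ G₀ → x * n * x = n⁻¹ := by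
    intro x hx n hn hG
    obtain ⟨g, rfl⟩ := isConj_iff.1 hx
    have := hinv _ (hN.conj_mem' n hn g) (by simpa using (normalG O).conj_mem n hG g⁻¹)
    calc g * d * g⁻¹ * n * (g * d * g⁻¹) = g * (d * (g⁻¹ * n * g) * d) * g⁻¹ := by group
      _ = n⁻¹ := by rw [this]; group
  have hswap : ∀ n ∈ N, n ∈ G₀ → n ≠ 1 → n * d * n⁻¹ = d * jj X := by
    intro n hn hG hne
    refine (conj_pair O ?_).resolve_left fun e => hne (hfix n hn hG (mul_inv_eq_iff_eq_mul.1 e))
    refine (mul_inv_eq_iff_eq_mul.1 ?_ : Commute (jj X) n).symm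
    have h2 := hinv' _ (d_jj_mem O) n hn hG
    rw [show jj X * n * (jj X)⁻¹ = d * (d * jj X * n * (d * jj X)) * d by
      rw [show (jj X)⁻¹ = jj X from inv_eq_of_mul_eq_one_right (ll_sq X _ _)]
      rw [show d * (d * jj X * n * (d * jj X)) * d = (d * d) * jj X * n * ((d * jj X) * d) by group, O.sq,
        ← ((Commute.refl d).mul_right (commute_jj O)).eq, d_mul_d O, one_mul], h2,
      hinv _ (inv_mem hn) (inv_mem hG), inv_inv]
  have hinner : ∀ n ∈ N, n ∈ G₀ → n = 1 := by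
    intro n hn hG
    by_contra hne
    have hne' : d * n * d⁻¹ ≠ 1 := fun e => hne (conj_eq_one_iff.1 e)
    have e1 := hswap n hn hG hne
    have e2 := hswap _ (hN.conj_mem n hn d) ((normalG O).conj_mem n hG d) hne'
    refine hne (hfix n hn hG ?_)
    have h : n⁻¹ * (d * n * d⁻¹) = 1 := by
      refine hfix _ (mul_mem (inv_mem hn) (hN.conj_mem n hn d))
        (mul_mem (inv_mem hG) ((normalG O).conj_mem n hG d)) (mul_inv_eq_iff_eq_mul.1 ?_)
      rw [show n⁻¹ * (d * n * d⁻¹) * d * (n⁻¹ * (d * n * d⁻¹))⁻¹ =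
        n⁻¹ * ((d * n * d⁻¹) * d * (d * n * d⁻¹)⁻¹) * n by group, e2, ← e1]
      group
    exact (mul_inv_eq_iff_eq_mul.1 (inv_mul_eq_one.1 h).symm : Commute d n).symm
  refine eq_bot_iff.2 fun n hn => Subgroup.mem_bot.2 ?_
  have hG : ∀ g ∈ G₀, n * g = g * n := fun g hg => by
    have h1 : n * g * n⁻¹ * g⁻¹ = 1 := by
      refine hinner _ ?_ (mul_mem ((normalG O).conj_mem g hg n) (inv_mem hg))
      rw [show n * g * n⁻¹ * g⁻¹ = n * (g * n⁻¹ * g⁻¹) by group]
      exact mul_mem hn (hN.conj_mem _ (inv_mem hn) g)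
    exact mul_inv_eq_iff_eq_mul.1 (mul_inv_eq_one.1 h1)
  have hd : d * n * d⁻¹ * n⁻¹ = 1 := by
    refine hinner _ (mul_mem (hN.conj_mem n hn d) (inv_mem hn)) ?_
    by_cases hnG : n ∈ G₀
    · exact mul_mem ((normalG O).conj_mem n hnG d) (inv_mem hnG)
    · exact mul_mem_out O (conj_notMem O d hnG) fun h => hnG (inv_mem_iff.1 h)
  have hdn : d * n = n * d := mul_inv_eq_iff_eq_mul.1 (mul_inv_eq_one.1 hd)
  refine Subgroup.mem_bot.1 (center O ▸ Subgroup.mem_center_iff.2 fun v => ?_)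
  by_cases hv : v ∈ G₀
  · exact (hG v hv).symm
  · rw [← d_mul_d O v]
    exact ((show Commute d n from hdn).mul_left (hG _ (d_mul_mem O hv)).symm).eq

theorem connected (p q : ↥(conjugatesOf d)) :
    Relation.ReflTransGen (fun p q : ↥(conjugatesOf d) => Commute (p : W) q) p q := by
  obtain ⟨w, hw, h1, h2⟩ := rel_all O p.2 q.2
  exact (Relation.ReflTransGen.single (r := fun p q : ↥(conjugatesOf d) => Commute (p : W) q) (b := ⟨w, hw⟩) h1.symm).tail h2

theorem prim : Cfsg.IsPrimitiveUnderConj (conjugatesOf d) := by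
  refine ThreeT.primitive_of_connected (class3 O) (nosol O) (connected O) ⟨d, IsConj.refl d, _, d_jj_mem O, ?_⟩
  exact fun e => ll_ne_one X abc_ne.1 (mul_eq_left.1 e.symm)

/-- The hypothesis of Fischer's theorem. -/
theorem fi : Fischer.Fi (conjugatesOf d) :=
  ⟨class3 O, center O, prim O, d, IsConj.refl d, _, d_jj_mem O,
    fun e => ll_ne_one X abc_ne.1 (mul_eq_left.1 e.symm), (Commute.refl d).mul_right (commute_jj O)⟩

end CfsgLib.FiLarge.AutM24
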