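import Cfsg.Agent.Fischer.Types
import Cfsg.Agent.Fischer.UniStepEnd
import Cfsg.Agent.Spor3T.M23Level

/-!
A group of type M(23) satisfies the local conditions of Fischer's theorem: the other known classes are excluded by
the numbers.
-/

set_option autoImplicit false
set_option linter.unusedSectionVars false
set_option linter.style.haveILetI false
set_option maxRecDepth 100000

namespace CfsgLib.FiLarge.AutM24

open CfsgLib.ThreeT CfsgLib.ThreeT.Prod CfsgLib.Fischer CfsgLib.ThreeT.Tv QuadraticMap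

universe u

variable {G : Type u} [Group G] [Finite G] {S : Set G}

theorem sym_ne {m : ℕ} (h : SymCo S m) : S.ncard ≠ 31671 := by
  classical
  obtain ⟨φ, f⟩ := h
  intro hS
  have e : edges m = (((Finset.univ : Finset (Fin m)).powersetCard 2).image fun s =>
      (fun k => if k ∈ s then (1 : ZMod 2) else 0 : Fin m → ZMod 2) : Finset _) := by
    ext v
    simp only [edges, Set.mem_setOf_eq, Finset.coe_image, Set.mem_image, Finset.mem_coe, Finset.mem_powersetCard,
      Finset.subset_univ, true_and]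
    constructor
    · rintro ⟨i, j, hij, rfl⟩
      refine ⟨{i, j}, Finset.card_pair hij, funext fun k => ?_⟩
      by_cases h1 : k = i
      · subst h1; simp [hij]
      · by_cases h2 : k = j
        · subst h2; simp [Ne.symm hij]
        · simp [h1, h2]
    · rintro ⟨s, hs, rfl⟩
      obtain ⟨i, j, hij, rfl⟩ := Finset.card_eq_two.1 hs
      refine ⟨i, j, hij, funext fun k => ?_⟩
      by_cases h1 : k = i
      · subst h1; simp [hij]
      · by_cases h2 : k = j
        · subst h2; simp [Ne.symm hij]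
        · simp [h1, h2]
  have hc : m.choose 2 = 31671 := by
    rw [← hS, f.bij.ncard_eq, e, Set.ncard_coe_finset, Finset.card_image_of_injective, Finset.card_powersetCard,
      Finset.card_univ, Fintype.card_fin]
    intro s t hst
    ext k
    have := congrFun hst k
    by_cases h1 : k ∈ s <;> by_cases h2 : k ∈ t <;> simp_all
  rw [Nat.choose_two_right] at hc
  by_cases h : m ≤ 252
  · have : m * (m - 1) ≤ 252 * 251 := Nat.mul_le_mul h (by omega)
    omega
  · have : 253 * 252 ≤ m * (m - 1) := Nat.mul_le_mul (by omega) (by omega)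
    omega

theorem symp_ne {m : ℕ} (h : SympCo S m) : S.ncard ≠ 31671 := by
  classical
  obtain ⟨φ, f⟩ := h
  intro hS
  have h1 : S.ncard + 1 = 2 ^ (m + m) := by
    have h2 := Set.ncard_add_ncard_compl ({(0 : Fin m ⊕ Fin m → ZMod 2)} : Set _)
    rw [Set.ncard_singleton, Nat.card_fun, Nat.card_sum, Nat.card_fin, Nat.card_zmod] at h2
    rw [f.bij.ncard_eq, ← h2, add_comm]
    rfl
  rw [hS] at h1
  by_cases hm : m + m ≤ 14
  · have := Nat.pow_le_pow_right (show 0 < 2 by norm_num) hm
    omega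
  · have := Nat.pow_le_pow_right (show 0 < 2 by norm_num) (show 15 ≤ m + m by omega)
    omega

theorem even_of_free {α : Type*} [Finite α] (P : Set α) (f : α → α) (hf : ∀ v ∈ P, f v ∈ P ∧ f v ≠ v ∧ f (f v) = v) :
    2 ∣ P.ncard := by
  classical
  haveI := Fintype.ofFinite α
  let σ : Equiv.Perm P := Function.Involutive.toPerm (fun v => ⟨f v, (hf v v.2).1⟩)
    (fun v => Subtype.ext (hf v v.2).2.2)
  have h1 : σ.support = Finset.univ := Finset.eq_univ_of_forall fun v => Equiv.Perm.mem_support.2 fun e =>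
    (hf v v.2).2.1 (congrArg Subtype.val e)
  have h2 : σ * σ = 1 := Equiv.ext fun v => Subtype.ext (hf v v.2).2.2
  have h3 : ∀ n ∈ σ.cycleType, n = 2 := fun n hn => le_antisymm
    (Nat.le_of_dvd two_pos ((Equiv.Perm.dvd_of_mem_cycleType hn).trans
      (orderOf_dvd_of_pow_eq_one (by rw [pow_two, h2]))))
    (Equiv.Perm.two_le_of_mem_cycleType hn)
  have h4 : 2 ∣ σ.support.card := by
    rw [← Equiv.Perm.sum_cycleType]
    exact Multiset.dvd_sum fun n hn => (h3 n hn).symm ▸ dvd_rfl
  rwa [h1, Finset.card_univ, ← Nat.card_eq_fintype_card, Nat.card_coe_set_eq] at h4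

theorem quad_ne {m : ℕ} (hm : 3 ≤ m) (h : QuadCo S m) : S.ncard ≠ 31671 := by
  classical
  obtain ⟨q, hq, φ, f⟩ := h
  intro hS
  haveI : Nonempty (Fin m) := ⟨⟨0, by omega⟩⟩
  have hq0 : q 0 = 0 := by
    have := hq 0 0
    rw [add_zero, show sform m 0 0 = 0 from (sform m 0).map_zero, add_zero] at this
    exact left_eq_add.1 this
  let i0 : Fin m := ⟨0, by omega⟩
  let i1 : Fin m := ⟨1, by omega⟩
  let e : Fin m → (Fin m ⊕ Fin m → ZMod 2) := fun i => Pi.single (Sum.inl i) 1
  have he : ∀ i j, sform m (e i) (e j) = 0 := by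
    intro i j
    show CfsgLib.Symp.form (e i) (e j) = 0
    rw [CfsgLib.Symp.form_single_inl]
    simp [e]
  have h01 : i0 ≠ i1 := fun e => by simp [i0, i1, Fin.ext_iff] at e
  obtain ⟨a, ha, ha0⟩ : ∃ a, q a = 0 ∧ a ≠ 0 := by
    by_cases h0 : q (e i0) = 0
    · exact ⟨_, h0, fun h => one_ne_zero (α := ZMod 2) (by simpa [e] using congrFun h (Sum.inl i0))⟩
    by_cases h1 : q (e i1) = 0
    · exact ⟨_, h1, fun h => one_ne_zero (α := ZMod 2) (by simpa [e] using congrFun h (Sum.inl i1))⟩
    refine ⟨e i0 + e i1, ?_, fun h => one_ne_zero (α := ZMod 2) ?_⟩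
    · rw [hq, he, (two_cases _).resolve_left h0, (two_cases _).resolve_left h1]; decide
    · simpa [e, h01] using congrFun h (Sum.inl i0)
  have haa : a + a = 0 := funext fun i => CharTwo.add_self_eq_zero _
  have hBa : sform m a a = 0 := by
    have := hq a a
    rw [haa, hq0, ha] at this
    simpa using this.symm
  obtain ⟨w, hw⟩ : ∃ w, sform m w a = 1 := by
    rcases ne_iff_exists a ha0 with ⟨i | i, hi⟩
    · exact ⟨Pi.single (Sum.inr i) 1, by
        show CfsgLib.Symp.form (Pi.single (Sum.inr i) 1) a = 1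
        rw [CfsgLib.Symp.form_single_inr, (two_cases (a (Sum.inl i))).resolve_left hi, one_mul]⟩
    · exact ⟨Pi.single (Sum.inl i) 1, by
        show CfsgLib.Symp.form (Pi.single (Sum.inl i) 1) a = 1
        rw [CfsgLib.Symp.form_single_inl, (two_cases (a (Sum.inr i))).resolve_left hi]
        decide⟩
  have key : ∀ v, q (v + a) = q v + sform m v a := fun v => by rw [hq, ha, add_zero]
  have hadd : ∀ v, sform m (v + a) a = sform m v a := fun v => by
    rw [map_add, LinearMap.add_apply, hBa, add_zero]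
  have e1 : 2 ∣ {v | q v = 1 ∧ sform m v a = 0}.ncard := even_of_free _ (fun v => v + a) fun v hv =>
    ⟨⟨by rw [key, hv.1, hv.2, add_zero], by rw [hadd, hv.2]⟩, fun e => ha0 (add_eq_left.1 e),
      by rw [add_assoc, haa, add_zero]⟩
  have e2 : 2 ∣ {v | q v = 1 ∧ sform m v a = 1}.ncard := by
    -- the affine hyperplane is split in halves
    have h2 : {v | q v = 0 ∧ sform m v a = 1}.ncard = {v | q v = 1 ∧ sform m v a = 1}.ncard := by
      refine Set.ncard_congr (fun v _ => v + a) (fun v hv => ⟨by rw [key, hv.1, hv.2]; rfl, by rw [hadd, hv.2]⟩)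
        (fun v w _ _ e => add_right_cancel e) fun v hv => ⟨v + a, ⟨by rw [key, hv.1, hv.2]; decide,
          by rw [hadd, hv.2]⟩, by rw [add_assoc, haa, add_zero]⟩
    have h3 : {v | sform m v a = 1}.ncard = {v | q v = 1 ∧ sform m v a = 1}.ncard * 2 := by
      rw [show {v | sform m v a = 1} = {v | q v = 1 ∧ sform m v a = 1} ∪ {v | q v = 0 ∧ sform m v a = 1} by
        ext v; rcases two_cases (q v) with h | h <;> simp [h], Set.ncard_union_eq _ (Set.toFinite _) (Set.toFinite _),
        h2, mul_two]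
      exact Set.disjoint_left.2 fun v hv hv' => zero_ne_one (hv'.1.symm.trans hv.1)
    have h4 : {v | sform m v a = 0}.ncard = {v | sform m v a = 1}.ncard := by
      have hww : w + w = 0 := funext fun i => CharTwo.add_self_eq_zero _
      refine Set.ncard_congr (fun v _ => v + w) (fun v hv => by
          show sform m (v + w) a = 1
          rw [map_add, LinearMap.add_apply, hv, hw, zero_add])
        (fun v w _ _ e => add_right_cancel e) fun v hv => ⟨v + w, by
          show sform m (v + w) a = 0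
          rw [map_add, LinearMap.add_apply, hv, hw]; rfl, by rw [add_assoc, hww, add_zero]⟩
    have h5 : {v | sform m v a = 0}.ncard + {v | sform m v a = 1}.ncard = 2 ^ (m + m) := by
      have h6 := Set.ncard_add_ncard_compl ({v | sform m v a = 0} : Set (Fin m ⊕ Fin m → ZMod 2))
      rw [Nat.card_fun, Nat.card_sum, Nat.card_fin, Nat.card_zmod] at h6
      rwa [show ({v | sform m v a = 0} : Set _)ᶜ = {v | sform m v a = 1} by
        ext v; rcases two_cases (sform m v a) with h | h <;> simp [h]] at h6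
    obtain ⟨k, hk⟩ : (8 : ℕ) ∣ 2 ^ (m + m) := (pow_dvd_pow 2 (show 3 ≤ m + m by omega))
    omega
  have hall : S.ncard = {v | q v = 1 ∧ sform m v a = 0}.ncard + {v | q v = 1 ∧ sform m v a = 1}.ncard := by
    rw [f.bij.ncard_eq, ← Set.ncard_union_eq _ (Set.toFinite _) (Set.toFinite _)]
    · congr 1
      ext v
      rcases two_cases (sform m v a) with h | h <;> simp [h]
    · exact Set.disjoint_left.2 fun v hv hv' => zero_ne_one (hv.2.symm.trans hv'.2)
  omega
where
  ne_iff_exists {m : ℕ} (a : Fin m ⊕ Fin m → ZMod 2) (h : a ≠ 0) : ∃ i, a i ≠ 0 := Function.ne_iff.1 h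

theorem uni_ne {n : ℕ} (h : UCo S n) : S.ncard ≠ 31671 := by
  obtain ⟨K, i1, i2, hK, φ, f⟩ := h
  intro hS
  obtain ⟨W⟩ := ThreeT.Tv.exists_wt hK
  have h1 := f.ncard_all W
  have h2 := CfsgLib.Unitary.numLen_zero (wt_card W) n
  rw [hS] at h1
  rw [← h1] at h2
  by_cases hn : 3 ≤ n
  · obtain ⟨k, rfl⟩ : ∃ k, n = k + 3 := ⟨n - 3, by omega⟩
    have h8 : (8 : ℤ) ∣ (2 : ℤ) ^ (k + 3) := ⟨2 ^ k, by ring⟩
    have := h8.mul_right ((2 : ℤ) ^ (k + 3) + (-1) ^ (k + 3) * ((2 : ℤ) - 1))
    push_cast at h2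
    rw [show ((2 : ℤ) - 1) = 1 by norm_num, ← h2] at this
    norm_num at this
  · interval_cases n <;> norm_num at h2

/-- The other form. -/
def sqn : (n : ℕ) → QuadraticForm (ZMod 3) (Fin (n + 1) → ZMod 3) := fun n => -(extQ (-(Fischer.sq n)))

theorem neg_nondeg {n : ℕ} {Q : QuadraticForm (ZMod 3) (Fin n → ZMod 3)}
    (hQ : (QuadraticMap.polarBilin Q).Nondegenerate) : (QuadraticMap.polarBilin (-Q)).Nondegenerate := by
  have e : ∀ v w, QuadraticMap.polarBilin (-Q) v w = -(QuadraticMap.polarBilin Q v w) := fun v w => by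
    simp [QuadraticMap.polar]; ring
  exact ⟨fun v h => hQ.1 v fun w => neg_eq_zero.1 ((e v w).symm.trans (h w)),
    fun v h => hQ.2 v fun w => neg_eq_zero.1 ((e w v).symm.trans (h w))⟩

theorem neg_det {n : ℕ} (Q : QuadraticForm (ZMod 3) (Fin n → ZMod 3)) :
    Cfsg.polarGramDet (⇑(-Q)) = (-1) ^ n * Cfsg.polarGramDet (⇑Q) := by
  rw [Cfsg.polarGramDet, Cfsg.polarGramDet]
  refine Eq.trans (congrArg Matrix.det ?_) ((Matrix.det_neg _).trans (by rw [Fintype.card_fin]))
  ext i j
  simp [QuadraticMap.polar]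
  ring

theorem sqn_nondeg (n : ℕ) : (QuadraticMap.polarBilin (sqn n)).Nondegenerate :=
  neg_nondeg (extQ_nondeg (neg_nondeg (sq_nondeg n)))

theorem sqn_det (n : ℕ) : Cfsg.polarGramDet (⇑(sqn n)) = -(2 ^ (n + 1)) := by
  rw [sqn, neg_det, extQ_det, neg_det, sq_det]
  have : ((-1 : ZMod 3) ^ n) * (-1) ^ n = 1 := by rw [← mul_pow]; norm_num
  rw [pow_succ, pow_succ]
  linear_combination -(2 * 2 ^ n : ZMod 3) * this

theorem sqn_card (n : ℕ) :
    Nat.card {v : Fin (n + 1) → ZMod 3 // sqn n v = 1} = sqCount n 1 + 2 * sqCount n 2 := by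
  classical
  have e : {v : Fin (n + 1) → ZMod 3 // sqn n v = 1} ≃
      Σ t : ZMod 3, {w : Fin n → ZMod 3 // Fischer.sq n w = 1 + t * t} :=
    { toFun := fun v => ⟨v.1 0, Fin.tail v.1, by
        have h2 : -(extQ (-(Fischer.sq n)) (Fin.cons (v.1 0) (Fin.tail v.1))) = 1 := by
          rw [Fin.cons_self_tail]; exact v.2
        rw [extQ_cons, neg_apply] at h2
        linear_combination h2⟩
      invFun := fun p => ⟨Fin.cons p.1 p.2.1, by
        rw [sqn, neg_apply, extQ_cons, neg_apply, p.2.2]; ring⟩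
      left_inv := fun v => Subtype.ext (Fin.cons_self_tail v.1)
      right_inv := fun p => by rcases p with ⟨t, w, hw⟩; rfl }
  rw [Nat.card_congr e, Nat.card_sigma]
  simp only [sq_card n]
  rw [show (Finset.univ : Finset (ZMod 3)) = {0, 1, -1} by decide, Finset.sum_insert (by decide),
    Finset.sum_insert (by decide), Finset.sum_singleton, mul_zero, add_zero, mul_one, neg_mul_neg, mul_one,
    show (1 : ZMod 3) + 1 = 2 by decide]
  ring

theorem count_large : ∀ k : ℕ, ∀ a, 63342 < sqCount (12 + k) a := by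
  intro k
  induction k with
  | zero => decide +kernel
  | succ k ih => intro a; rw [← add_assoc, sqCount]; have := ih a; omega

theorem refl_ne {n : ℕ} {μ : ZMod 3} (h : RCo S n μ) : S.ncard ≠ 31671 := by
  classical
  intro hS
  obtain ⟨Q, hQ, hd, φ, f⟩ := h
  have hc := f.ncard_two'
  rw [hS] at hc
  have hμ : μ ≠ 0 := by
    intro h0
    rw [h0, Cfsg.polarGramDet] at hd
    obtain ⟨v, hv, e⟩ := Matrix.exists_mulVec_eq_zero_iff.2 hd
    refine hv (hQ.1 v fun w => ?_)
    have hlin : ∀ j, pb Q (Pi.single j 1) v = 0 := fun j => by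
      have h2 := congrFun e j
      rw [Matrix.mulVec, dotProduct, Pi.zero_apply] at h2
      conv_lhs => rw [pi_eq_sum_univ' v, map_sum]
      rw [← h2]
      refine Finset.sum_congr rfl fun i _ => ?_
      rw [map_smul, smul_eq_mul, mul_comm]
      rfl
    rw [pi_eq_sum_univ' w, map_sum]
    refine Finset.sum_eq_zero fun j _ => ?_
    rw [map_smul, smul_eq_mul]
    show w j * pb Q v (Pi.single j 1) = 0
    rw [pb_symm, hlin, mul_zero]
  by_cases hm : μ = 2 ^ n
  · obtain ⟨g, hg⟩ := isometric_sq hQ (hd.trans hm)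
    have h1 : 2 * 31671 = sqCount n 1 := by
      rw [hc, ← sq_card]
      exact Nat.card_congr (g.toEquiv.subtypeEquiv fun v => by show Q v = 1 ↔ sq n (g v) = 1; rw [hg])
    by_cases hn : n < 12
    · interval_cases n <;> revert h1 <;> decide +kernel
    · have := count_large (n - 12) 1
      rw [show 12 + (n - 12) = n by omega] at this
      omega
  · have hm' : μ = -(2 ^ n) := by
      have h2 : (2 : ZMod 3) ^ n = 1 ∨ (2 : ZMod 3) ^ n = -1 := by
        induction n with
        | zero => exact Or.inl (pow_zero _)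
        | succ n ih =>
          rcases Nat.even_or_odd (n + 1) with h | h
          · exact Or.inl (by rw [show (2 : ZMod 3) = -1 by decide, h.neg_one_pow])
          · exact Or.inr (by rw [show (2 : ZMod 3) = -1 by decide, h.neg_one_pow])
      have key : ∀ μ : ZMod 3, μ ≠ 0 → ∀ c : ZMod 3, (c = 1 ∨ c = -1) → μ ≠ c → μ = -c := by decide
      exact key μ hμ _ h2 hm
    obtain ⟨k, rfl⟩ : ∃ k, n = k + 1 := by
      refine ⟨n - 1, ?_⟩
      rcases Nat.eq_zero_or_pos n with h0 | h0
      · subst h0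
        exfalso
        rw [Cfsg.polarGramDet, Matrix.det_fin_zero] at hd
        rw [hm'] at hd
        revert hd; decide
      · omega
    obtain ⟨g, hg⟩ : ∃ g : (Fin (k + 1) → ZMod 3) ≃ₗ[ZMod 3] (Fin (k + 1) → ZMod 3), ∀ v, sqn k (g v) = Q v := by
      refine CfsgLib.QuadStd.isometric_of_disc (by decide) hQ (sqn_nondeg k) (Pi.basisFun (ZMod 3) (Fin (k + 1)))
        (Pi.basisFun (ZMod 3) (Fin (k + 1))) ?_
      have e : ∀ R : QuadraticForm (ZMod 3) (Fin (k + 1) → ZMod 3),
          (CfsgLib.QuadStd.gram R (Pi.basisFun (ZMod 3) (Fin (k + 1)))).det = Cfsg.polarGramDet (⇑R) := by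
        intro R
        rw [Cfsg.polarGramDet]
        congr 1
        ext i j
        simp [CfsgLib.QuadStd.gram]
      rw [e, e, hd, hm', sqn_det]
      have h2 : ∀ k, ((2 : ZMod 3) ^ k) * (2 : ZMod 3) ^ k = 1 := fun k => by
        rw [← mul_pow]; rw [show (2 : ZMod 3) * 2 = 1 by decide, one_pow]
      exact ⟨2 ^ (k + 1), by rw [neg_mul_neg]⟩
    have h1 : 2 * 31671 = sqCount k 1 + 2 * sqCount k 2 := by
      rw [hc, ← sqn_card]
      exact Nat.card_congr (g.toEquiv.subtypeEquiv fun v => by show Q v = 1 ↔ sqn k (g v) = 1; rw [hg])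
    by_cases hn : k < 12
    · interval_cases k <;> revert h1 <;> decide +kernel
    · have := count_large (k - 12) 1
      rw [show 12 + (k - 12) = k by omega] at this
      omega

/-- A group of type M(23) satisfies the local conditions. -/
theorem t23_of_type (hS : Cfsg.IsThreeTranspositionGroup S) (hprim : Cfsg.IsPrimitiveUnderConj S)
    (h23 : Cfsg.IsOfTypeM23 G S) : T23 S := by
  obtain ⟨a, P⟩ := exists_point23 hS hprim h23
  have hn := ncard23 P
  obtain ⟨b, hb⟩ : (nb S a).Nonempty :=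
    Set.nonempty_of_ncard_ne_zero (by rw [((pre23 P).loc a P.mem).card_nb]; norm_num)
  have hfi : Fi S := ⟨P.base.class3, P.base.center, hprim, a, P.mem, b, hb.1, hb.2.1.symm, hb.2.2⟩
  have hk := known_of_fi hfi
  cases hk with
  | sym m hm h => exact absurd hn (sym_ne h)
  | symp m hm h => exact absurd hn (symp_ne h)
  | quad m hm h => exact absurd hn (quad_ne (by omega) h)
  | uni n hn' h => exact absurd hn (uni_ne h)
  | refl n hn' μ h => exact absurd hn (refl_ne h)
  | t22 h => exact absurd hn (by rw [six_ncard hfi h.1]; norm_num)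
  | t23 h => exact h
  | t24 h =>
    exfalso
    have L := (pre23 P).loc a P.mem
    obtain ⟨c, hc, hbc⟩ : ∃ c ∈ nb S a, ¬ Commute c b := by
      by_contra hno
      push Not at hno
      have h1 : {y | y ∈ nb S a ∧ y ≠ b ∧ Commute y b} = nb S a \ {b} :=
        Set.ext fun y => ⟨fun q => ⟨q.1, q.2.1⟩, fun q => ⟨q.1, q.2, hno y q.1⟩⟩
      have h2 := L.card_pair b hb
      rw [h1, Set.ncard_sdiff_singleton_of_mem hb, L.card_nb] at h2
      norm_num at h2
    have h1 := ((h.1 a P.mem).2 b hb c hc fun q => hbc q.symm).ncard (by decide)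
    rw [sqCount_vals.2.1] at h1
    have e : tri (nb S a) b c = {y | y ∈ nb S a ∧ Commute y b ∧ Commute y c} := Set.ext fun y =>
      ⟨fun q => ⟨q.1.1, q.1.2.2.symm, q.2⟩,
        fun q => ⟨⟨q.1, fun e => hbc (e ▸ q.2.2.symm), q.2.1.symm⟩, q.2.2⟩⟩
    rw [e, L.card_line b hb c hc fun q => hbc q.symm] at h1
    norm_num at h1

end CfsgLib.FiLarge.AutM24
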