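import Cfsg.Agent.FiLarge.AutM24.TypeY
import Cfsg.Agent.TC23.Graph

/-!
The conjugates of the outer involution: commuting pairs, odd products, and common commuting members above an
involution.
-/

set_option autoImplicit false
set_option quotPrecheck false
set_option linter.style.haveILetI false
set_option linter.unusedSectionVars false
set_option maxRecDepth 100000

namespace CfsgLib.FiLarge.AutM24

open CfsgLib Subgroup CfsgLib.FiLarge.Thom CfsgLib.FiLarge.U62 CfsgLib.FiLarge.Cent CfsgLib.FiLarge.Aut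
open CfsgLib.FiLarge.Dat (val)
open CfsgLib.TC23 (Rel)

theorem pigeon_four : ∀ p : Fin 4 → Bool, ∃ i j, i ≠ j ∧ p i = p j := by decide

theorem same_zero : ∀ x y : F4, (x = 0 ↔ y = 0) → ∃ k : F4, k ≠ 0 ∧ k * (x * x) + y * y = 0 := by decide +kernel

theorem single_pair_kind : ∀ (i j : Fin 6) (k : F4), i ≠ j → k ≠ 0 →
    kind (Pi.single i k + Pi.single j 1) = some 0 := by decide +kernel

/-- A short vector orthogonal to the standard one and to a given vector. -/
theorem perp_small (b : V6) : ∃ c : V6, kind c = some 0 ∧ herm c v2 = 0 ∧ herm c b = 0 := by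
  obtain ⟨i, j, hij, hp⟩ := pigeon_four fun i => decide (b i.succ.succ = 0)
  obtain ⟨k, hk, hk0⟩ := same_zero (b i.succ.succ) (b j.succ.succ) (decide_eq_decide.1 hp)
  have hne : i.succ.succ ≠ j.succ.succ := fun e => hij (Fin.succ_injective _ (Fin.succ_injective _ e))
  have hh : ∀ w : V6, herm (Pi.single i.succ.succ k + Pi.single j.succ.succ 1) w =
      k * (w i.succ.succ * w i.succ.succ) + w j.succ.succ * w j.succ.succ := fun w => by
    rw [herm_add]
    simp [herm, Pi.single_apply]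
  refine ⟨_, single_pair_kind _ _ k hne hk, ?_, by rw [hh, hk0]⟩
  have hv : ∀ l : Fin 4, v2 l.succ.succ = 0 := by decide +kernel
  rw [hh, hv, hv]
  simp

/-- Vanishing of the hermitian form gives orthogonality. -/
theorem perp_of_herm {c w : V6} (h : herm c w = 0) : qn (c + w) = qn c + qn w := by
  have h1 := polar_qn c w
  rw [h, show trF 0 = 0 from rfl] at h1
  generalize qn (c + w) = r, qn c = s, qn w = t at h1 ⊢
  revert r s t
  decide

theorem herm_smul_right (l : F4) (a b : V6) : herm a (l • b) = l * l * herm a b := by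
  simp only [herm, Pi.smul_apply, smul_eq_mul, Finset.mul_sum]
  exact Finset.sum_congr rfl fun i _ => by ring

variable {W : Type*} [Group W] [Finite W] {G₀ : Subgroup W} {z : ↥G₀}
  {Q : Subgroup (centralizer ({z} : Set ↥G₀))} [Q.Normal] {D : Dat z Q}

local notation "NA" => normalizer (A0 D : Set ↥G₀)
local notation "HH" => centralizer ({z} : Set ↥G₀)
local notation "mk" => QuotientGroup.mk' Q

variable {X : Ctx D} {d : W} (O : Out X d)

include O

theorem ll_small {p q : Cfsg.GolayPt} (h : p ≠ q) : ¬ IsConj (z : W) (ll X p q) := fun hc =>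
  ((mem_nS D).1 (X.L.mem p q h)).2.2 ((isConj_val O).1 hc)

theorem jj_small : ¬ IsConj (z : W) (jj X) := ll_small O abc_ne.1

theorem tet_z : IsConj z (tet X) := by
  obtain ⟨n1, n2, n3⟩ := abc_ne
  obtain ⟨e1, e2, e3⟩ := ptE_ne
  exact X.four_z (by simp [Finset.card_insert_of_notMem, n2, n1.symm, n3.symm, e1.symm, e2.symm, e3.symm])

theorem exists_to_bc : ∃ n : ↥NA, (n : ↥G₀) * tt X * (n : ↥G₀)⁻¹ = X.L.lab ptB ptC := by
  obtain ⟨n, h1, h2⟩ := exists_two X abc_ne.1 abc_ne.2.1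
  exact ⟨n, by rw [show tt X = X.L.lab ptA ptB from rfl, X.L.conj, h1, h2]⟩

theorem isConj_bc : IsConj (tt X) (X.L.lab ptB ptC) :=
  let ⟨n, hn⟩ := exists_to_bc O; isConj_iff.2 ⟨_, hn⟩

theorem E_notMem {e : W} (he : e ∈ conjugatesOf d) : e ∉ G₀ := by
  obtain ⟨g, rfl⟩ := isConj_iff.1 he
  exact conj_notMem O g O.notMem

theorem E_sq {e : W} (he : e ∈ conjugatesOf d) : e * e = 1 := by
  obtain ⟨g, rfl⟩ := isConj_iff.1 he
  rw [show g * d * g⁻¹ * (g * d * g⁻¹) = g * (d * d) * g⁻¹ by group, O.sq]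
  group

theorem E_inv {e : W} (he : e ∈ conjugatesOf d) : e⁻¹ = e := inv_eq_of_mul_eq_one_right (E_sq O he)

theorem E_conj {e : W} (he : e ∈ conjugatesOf d) (g : W) : g * e * g⁻¹ ∈ conjugatesOf d :=
  (show IsConj d e from he).trans (isConj_iff.2 ⟨g, rfl⟩)

theorem E_rep {e : W} (he : e ∈ conjugatesOf d) : ∃ g : ↥G₀, (g : W) * d * (g : W)⁻¹ = e := by
  obtain ⟨g, rfl⟩ := isConj_iff.1 he
  by_cases hg : g ∈ G₀
  · exact ⟨⟨g, hg⟩, rfl⟩
  · refine ⟨⟨g * d, mul_mem_out O hg O.notMem⟩, ?_⟩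
    show g * d * d * (g * d)⁻¹ = _
    group

theorem d_jj_mem : d * jj X ∈ conjugatesOf d := wp_mem O ptB

theorem dd_inv : d⁻¹ = d := inv_eq_of_mul_eq_one_right O.sq

/-- A member centralising the abelian subgroup belongs to a point. -/
theorem member_A0 {e : W} (he : e ∈ conjugatesOf d) (hc : ∀ a ∈ A0 D, Commute e (a : W)) :
    ∃ p, e = wp X d p := by
  classical
  haveI : Fact (Nat.Prime 2) := ⟨Nat.prime_two⟩
  obtain ⟨g, hg⟩ := E_rep O he
  let K : Subgroup ↥G₀ := (centralizer ({e} : Set W)).subgroupOf G₀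
  have hK : ∀ x : ↥G₀, x ∈ K ↔ Commute (x : W) e := fun x => by
    rw [mem_subgroupOf, mem_centralizer_singleton_iff]; rfl
  set A2 := (A0 D).map (MulAut.conj g).toMonoidHom
  have h1 : A0 D ≤ K := fun a ha => (hK a).2 (hc a ha).symm
  have h2 : A2 ≤ K := by
    rintro _ ⟨x, hx, rfl⟩
    refine (hK _).2 ?_
    rw [← hg]
    exact (ThreeT.commute_conj_iff (g : W) _ _).2 (commute_A0 O hx).symm
  have hsq : ∀ a ∈ A0 D, a * a = 1 := fun a ha => X.sq ha
  have hsq2 : ∀ x ∈ A2, x * x = 1 := by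
    rintro _ ⟨x, hx, rfl⟩; rw [← map_mul, hsq x hx, map_one]
  have pg : ∀ B : Subgroup ↥G₀, (∀ x ∈ B, x * x = 1) → IsPGroup 2 (B.subgroupOf K) :=
    fun B hB x => ⟨1, Subtype.ext (Subtype.ext (by
      rw [pow_one, SubgroupClass.coe_pow, SubgroupClass.coe_pow, pow_two]; exact hB _ x.2))⟩
  obtain ⟨S1, hS1⟩ := (pg _ hsq).exists_le_sylow
  obtain ⟨S2, hS2⟩ := (pg _ hsq2).exists_le_sylow
  obtain ⟨h, hh⟩ := MulAction.exists_smul_eq ↥K S2 S1
  obtain ⟨S, hS⟩ := (S1.isPGroup'.map (Subgroup.subtype _)).exists_le_sylow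
  obtain ⟨k, -, huniq⟩ := sylow_conj D X.hinv X.hu S
  have hA := (card_A0 D X.hinv).1
  set A3 := (A0 D).map (MulAut.conj ((h : ↥G₀) * g)).toMonoidHom with hA3def
  have hA1S : A0 D ≤ S := fun x hx => hS (mem_map.2 ⟨⟨x, h1 hx⟩, hS1 hx, rfl⟩)
  have hA3S : A3 ≤ S := by
    rintro _ ⟨x, hx, rfl⟩
    refine hS (mem_map.2 ⟨h * ⟨g * x * g⁻¹, h2 ⟨x, hx, rfl⟩⟩ * h⁻¹, ?_, ?_⟩)
    · have hm : (⟨g * x * g⁻¹, h2 ⟨x, hx, rfl⟩⟩ : ↥K) ∈ (S2 : Subgroup ↥K) := hS2 ⟨x, hx, rfl⟩
      rw [← hh]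
      exact ⟨_, hm, rfl⟩
    · show (h : ↥G₀) * (g * x * g⁻¹) * (h : ↥G₀)⁻¹ = (h : ↥G₀) * g * x * ((h : ↥G₀) * g)⁻¹
      group
  have hA3sq : ∀ x ∈ A3, x * x = 1 := by
    rintro _ ⟨x, hx, rfl⟩; rw [← map_mul, hsq x hx, map_one]
  have e3 : A3 = A0 D :=
    (huniq A3 hA3S hA3sq (by rw [hA3def, card_map_of_injective (MulEquiv.injective _), hA])).trans
      (huniq _ hA1S hsq hA.ge).symm
  have hn : (h : ↥G₀) * g ∈ NA := map_conj_mem e3
  refine ⟨pp X ⟨_, hn⟩ ptA, ?_⟩
  rw [← conj_d O ⟨_, hn⟩]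
  show e = ((h : ↥G₀) : W) * (g : W) * d * (((h : ↥G₀) : W) * (g : W))⁻¹
  rw [show ((h : ↥G₀) : W) * (g : W) * d * (((h : ↥G₀) : W) * (g : W))⁻¹ =
    ((h : ↥G₀) : W) * ((g : W) * d * (g : W)⁻¹) * ((h : ↥G₀) : W)⁻¹ by group, hg,
    ((hK _).1 h.2).eq, mul_inv_cancel_right]

/-- The translates by a pair off the first point and by four points are not members. -/
theorem not_member_of_A0 {a : ↥G₀} (ha : a ∈ A0 D) (hne : ∀ p, (a : W) ≠ ll X ptA p) :
    d * (a : W) ∉ conjugatesOf d := fun hm => by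
  obtain ⟨p, hp⟩ := member_A0 O hm fun b hb => (commute_A0 O hb).mul_left
    (congrArg Subtype.val (X.comm ha hb).eq :)
  exact hne p (mul_left_cancel hp)

theorem bc_notMem : d * ll X ptB ptC ∉ conjugatesOf d := by
  obtain ⟨n1, n2, n3⟩ := abc_ne
  refine not_member_of_A0 O (X.lab_A0 _ _) fun p e => ?_
  change ll X ptB ptC = ll X ptA p at e
  by_cases hA : p = ptA
  · rw [hA, ll_self] at e; exact ll_ne_one X n2 e
  by_cases hB : p = ptB
  · subst hB
    exact ll_ne_one X n3 (by rw [← ll_trans X ptA ptB ptC, e, ll_sq])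
  by_cases hC : p = ptC
  · subst hC
    exact ll_ne_one X n1 (by
      rw [← ll_trans X ptA ptC ptB, ll_symm X ptC ptB, e, ll_sq])
  have hz := X.four_z (p := ptB) (q := ptC) (r := ptA) (t := p)
    (by simp [Finset.card_insert_of_notMem, n2, n1.symm, n3.symm, Ne.symm hA, Ne.symm hB, Ne.symm hC])
  have h2 : X.L.lab ptB ptC = X.L.lab ptA p := Subtype.ext e
  rw [h2, X.lab_mul_self] at hz
  exact not_conj_one D hz

theorem tet_notMem : d * (tet X : W) ∉ conjugatesOf d := by
  refine not_member_of_A0 O (mul_mem (X.lab_A0 _ _) (X.lab_A0 _ _)) fun p e => ?_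
  change (tet X : W) = ll X ptA p at e
  have h2 : IsConj (z : W) (ll X ptA p) := e ▸ (isConj_val O).2 (tet_z O)
  by_cases hA : ptA = p
  · subst hA
    rw [ll_self] at h2
    exact not_conj_one D ((isConj_val (v := (1 : ↥G₀)) O).1 h2)
  · exact ll_small O hA h2

/-- A member commuting with the small involution commutes with the outer involution. -/
theorem commute_of_jj {y : W} (hy : y ∈ conjugatesOf d) (h : Commute y (jj X)) : Commute y d := by
  obtain ⟨g, rfl⟩ := E_rep O hy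
  have hv : Commute d ((g⁻¹ * tt X * g : ↥G₀) : W) := by
    rw [← ThreeT.commute_conj_iff (g : W)]
    convert h using 1
    push_cast
    group
  have hv2 : g⁻¹ * tt X * g * (g⁻¹ * tt X * g) = 1 := by
    rw [show g⁻¹ * tt X * g * (g⁻¹ * tt X * g) = g⁻¹ * (tt X * tt X) * g by group,
      X.lab_mul_self ptA ptB]
    group
  have hv1 : g⁻¹ * tt X * g ≠ 1 := fun e => ll_ne_one X abc_ne.1 (congrArg Subtype.val (show tt X = 1 by
    rw [show tt X = g * (g⁻¹ * tt X * g) * g⁻¹ by group, e]; group))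
  obtain ⟨k, hk, hk' | hk' | hk'⟩ := invol_cases O hv hv2 hv1
  · have e : ((g * k : ↥G₀) : W) * jj X * ((g * k : ↥G₀) : W)⁻¹ = jj X := congrArg Subtype.val
      (show g * k * tt X * (g * k)⁻¹ = tt X by
        rw [show g * k * tt X * (g * k)⁻¹ = g * (k * tt X * k⁻¹) * g⁻¹ by group, ← hk']; group)
    have e2 : ((g * k : ↥G₀) : W) * d * ((g * k : ↥G₀) : W)⁻¹ = (g : W) * d * (g : W)⁻¹ := by
      push_cast
      rw [show (g : W) * k * d * ((g : W) * k)⁻¹ = (g : W) * ((k : W) * d * (k : W)⁻¹) * (g : W)⁻¹ by group,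
        ← hk.eq, mul_inv_cancel_right]
    rcases conj_pair O (mul_inv_eq_iff_eq_mul.1 e) with q | q <;> rw [e2] at q <;> rw [q]
    exact (Commute.refl d).mul_left (commute_jj O).symm
  · obtain ⟨n, hn⟩ := exists_to_bc O
    set h' : ↥G₀ := g * k * (n : ↥G₀)
    have e : (h' : W) * jj X * (h' : W)⁻¹ = jj X := congrArg Subtype.val (show h' * tt X * h'⁻¹ = tt X by
      rw [show h' * tt X * h'⁻¹ = g * (k * ((n : ↥G₀) * tt X * (n : ↥G₀)⁻¹) * k⁻¹) * g⁻¹ by
        simp only [h']; group, hn, ← hk']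
      group)
    have hc := conj_d O n⁻¹
    set x := pp X n⁻¹ ptA
    have e2 : (g : W) * d * (g : W)⁻¹ = (h' : W) * wp X d x * (h' : W)⁻¹ := by
      rw [← hc]
      simp only [h']
      push_cast
      rw [show (g : W) * k * ((n : ↥G₀) : W) * (((n : ↥G₀) : W)⁻¹ * d * (((n : ↥G₀) : W)⁻¹)⁻¹) *
        ((g : W) * k * ((n : ↥G₀) : W))⁻¹ = (g : W) * ((k : W) * d * (k : W)⁻¹) * (g : W)⁻¹ by group,
        ← hk.eq, mul_inv_cancel_right]
    have hwd : Commute (wp X d x) d := (Commute.refl d).mul_left (commute_ll O ptA x).symm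
    have h3 := (ThreeT.commute_conj_iff (h' : W) _ _).2 hwd
    rw [← e2] at h3
    rcases conj_pair O (mul_inv_eq_iff_eq_mul.1 e) with q | q <;> rw [q] at h3
    · exact h3
    · have := h3.mul_right h
      rwa [mul_assoc d, show jj X * jj X = 1 from ll_sq X _ _, mul_one] at this
  · exfalso
    have h4 : IsConj z (g⁻¹ * tt X * g) := hk' ▸ (tet_z O).trans (isConj_iff.2 ⟨k, rfl⟩)
    refine jj_small O ((isConj_val O).2 (h4.trans (isConj_iff.2 ⟨g, ?_⟩)))
    group

/-- The member over a small involution commutes with the members commuting with it. -/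
theorem rel_small {u : ↥G₀} (hu : IsConj (tt X) u) {x y : W} (hx : x ∈ conjugatesOf d)
    (hy : y ∈ conjugatesOf d) (hux : Commute (u : W) x) (huy : Commute (u : W) y) : Rel d x y := by
  obtain ⟨g, rfl⟩ := isConj_iff.1 hu
  have key : ∀ e ∈ conjugatesOf d, Commute ((g * tt X * g⁻¹ : ↥G₀) : W) e →
      Commute ((g : W) * d * (g : W)⁻¹) e := by
    intro e he hc
    have h1 := commute_of_jj O (E_conj O he (g : W)⁻¹) (by
      rw [← ThreeT.commute_conj_iff (g : W)]
      convert hc.symm using 1 <;> simp [mul_assoc])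
    have h2 := (ThreeT.commute_conj_iff (g : W) _ _).2 h1.symm
    simpa [mul_assoc] using h2
  exact ⟨_, isConj_iff.2 ⟨(g : W), rfl⟩, key x hx hux, key y hy huy⟩

/-- The members commuting with the outer involution. -/
theorem member_nb {y : W} (hy : y ∈ conjugatesOf d) (hc : Commute y d) (hne : y ≠ d) :
    ∃ g : ↥G₀, Commute d (g : W) ∧ y = (g : W) * (d * jj X) * (g : W)⁻¹ := by
  set v : ↥G₀ := ⟨d * y, d_mul_mem O (E_notMem O hy)⟩
  have hv : Commute d (v : W) := (Commute.refl d).mul_right hc.symm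
  have hv2 : v * v = 1 := Subtype.ext (by
    show d * y * (d * y) = 1
    rw [hc.mul_mul_mul_comm d y, O.sq, E_sq O hy, one_mul])
  have hv1 : v ≠ 1 := fun e => hne (by
    have e' : d * y = 1 := congrArg Subtype.val e
    rw [← d_mul_d O y, e', mul_one])
  obtain ⟨k, hk, h⟩ := invol_cases O hv hv2 hv1
  have hy' : ∀ s : ↥G₀, v = k * s * k⁻¹ → y = (k : W) * (d * (s : W)) * (k : W)⁻¹ := fun s hs => by
    rw [← d_mul_d O y, show d * y = (k : W) * (s : W) * (k : W)⁻¹ from congrArg Subtype.val hs,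
      show (k : W) * (d * (s : W)) * (k : W)⁻¹ = ((k : W) * d * (k : W)⁻¹) * ((k : W) * (s : W) * (k : W)⁻¹) by
        group, ← hk.eq, mul_inv_cancel_right]
  have hback : ∀ s : ↥G₀, v = k * s * k⁻¹ → d * (s : W) ∈ conjugatesOf d := fun s hs => by
    have := E_conj O hy (k : W)⁻¹
    rw [hy' s hs] at this
    simpa [mul_assoc] using this
  rcases h with h | h | h
  · exact ⟨k, hk, hy' _ h⟩
  · exact absurd (hback _ h) (bc_notMem O)
  · exact absurd (hback _ h) (tet_notMem O)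

/-- Commuting distinct members are conjugate to the standard pair. -/
theorem pair_std {x q : W} (hx : x ∈ conjugatesOf d) (hq : q ∈ conjugatesOf d) (hc : Commute x q) (hne : x ≠ q) :
    ∃ g : W, g * d * g⁻¹ = x ∧ g * (d * jj X) * g⁻¹ = q := by
  obtain ⟨g, rfl⟩ := isConj_iff.1 hx
  have hy := E_conj O hq g⁻¹
  rw [inv_inv] at hy
  have hyd : Commute (g⁻¹ * q * g) d := by
    rw [← ThreeT.commute_conj_iff g]
    simpa [mul_assoc] using hc.symm
  obtain ⟨k, hk, e⟩ := member_nb O hy hyd fun e => hne (by rw [← e]; group)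
  refine ⟨g * k, ?_, ?_⟩
  · rw [show g * k * d * (g * k)⁻¹ = g * ((k : W) * d * (k : W)⁻¹) * g⁻¹ by group, ← hk.eq, mul_inv_cancel_right]
  · rw [show g * k * (d * jj X) * (g * k)⁻¹ = g * ((k : W) * (d * jj X) * (k : W)⁻¹) * g⁻¹ by group, ← e]
    group

/-- A member commuting with the product of two commuting members commutes with both. -/
theorem commute_pair {x q y : W} (hx : x ∈ conjugatesOf d) (hq : q ∈ conjugatesOf d) (hy : y ∈ conjugatesOf d)
    (hc : Commute x q) (hne : x ≠ q) (h : Commute y (x * q)) : Commute y x := by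
  obtain ⟨g, rfl, rfl⟩ := pair_std O hx hq hc hne
  have h1 : Commute (g⁻¹ * y * g) d := by
    refine commute_of_jj O (by simpa using E_conj O hy g⁻¹) ?_
    rw [← ThreeT.commute_conj_iff g]
    convert h using 1
    · group
    · rw [show g * d * g⁻¹ * (g * (d * jj X) * g⁻¹) = g * (d * (d * jj X)) * g⁻¹ by group, d_mul_d O]
  have := (ThreeT.commute_conj_iff g _ _).2 h1
  simpa [mul_assoc] using this

/-- An element commuting with the product of two commuting members fixes or exchanges them. -/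
theorem swap_pair {x q u : W} (hx : x ∈ conjugatesOf d) (hq : q ∈ conjugatesOf d) (hc : Commute x q) (hne : x ≠ q)
    (h : Commute u (x * q)) : u * x * u⁻¹ = x ∨ u * x * u⁻¹ = q := by
  obtain ⟨g, rfl, rfl⟩ := pair_std O hx hq hc hne
  have h1 : Commute (g⁻¹ * u * g) (jj X) := by
    rw [← ThreeT.commute_conj_iff g]
    convert h using 1
    · group
    · rw [show g * d * g⁻¹ * (g * (d * jj X) * g⁻¹) = g * (d * (d * jj X)) * g⁻¹ by group, d_mul_d O]
  rcases conj_pair O h1 with e | e <;> [left; right] <;>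
    rw [show u * (g * d * g⁻¹) * u⁻¹ = g * (g⁻¹ * u * g * d * (g⁻¹ * u * g)⁻¹) * g⁻¹ by group, e]

/-- Non-commuting members have a product of odd order. -/
theorem odd {x y : W} (hx : x ∈ conjugatesOf d) (hy : y ∈ conjugatesOf d) (hc : ¬ Commute x y) :
    Odd (orderOf (x * y)) := by
  rcases Nat.even_or_odd (orderOf (x * y)) with ⟨m, hm⟩ | ho
  · exfalso
    have hxx := E_sq O hx
    have hyy := E_sq O hy
    have hn : 0 < orderOf (x * y) := orderOf_pos _
    set r := x * y with hr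
    set c := r ^ m with hcdef
    have hcc : c * c = 1 := by rw [hcdef, ← pow_add, ← hm, pow_orderOf_eq_one]
    have hc1 : c ≠ 1 := fun e => by
      have := orderOf_dvd_of_pow_eq_one e
      have := Nat.le_of_dvd (by omega) this
      omega
    have hxc : x * c = c * x := by
      rw [hcdef, hr, TC23.invert_pow hxx hyy, ← hr, ← hcdef, inv_eq_of_mul_eq_one_right hcc]
    have hcy : Commute c y := by
      have : y = x * r := by rw [hr, ← mul_assoc, hxx, one_mul]
      rw [this]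
      exact (show Commute c x from hxc.symm).mul_right (by rw [hcdef]; exact (Commute.refl r).pow_left m)
    have hq : x * c ∈ conjugatesOf d := by
      rcases Nat.even_or_odd m with ⟨j, hj⟩ | ⟨j, hj⟩
      · have : x * c = (r ^ j)⁻¹ * x * (r ^ j)⁻¹⁻¹ := by
          rw [inv_inv, hcdef, hj, pow_add, ← mul_assoc, hr, TC23.invert_pow hxx hyy]
        rw [this]; exact E_conj O hx _
      · have : x * c = (r ^ j)⁻¹ * y * (r ^ j)⁻¹⁻¹ := by
          have hy' : y * r ^ j = (r ^ j)⁻¹ * y := by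
            have := TC23.invert_pow hyy hxx j
            rw [show y * x = r⁻¹ by rw [hr, mul_inv_rev, inv_eq_of_mul_eq_one_right hxx,
              inv_eq_of_mul_eq_one_right hyy], inv_pow, inv_inv] at this
            calc y * r ^ j = (r ^ j)⁻¹ * (r ^ j * y) * r ^ j := by group
              _ = (r ^ j)⁻¹ * (y * (r ^ j)⁻¹) * r ^ j := by rw [this]
              _ = (r ^ j)⁻¹ * y := by group
          rw [inv_inv, hcdef, hj, ← hy', show 2 * j + 1 = 1 + j + j by omega, pow_add, pow_add, pow_one, hr]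
          simp only [← mul_assoc, hxx, one_mul]
        rw [this]; exact E_conj O hy _
    refine hc (commute_pair O hx hq hy ((Commute.refl x).mul_right hxc) (fun e => hc1 (mul_eq_left.1 e.symm))
      ?_).symm
    rw [← mul_assoc, hxx, one_mul]
    exact hcy.symm
  · exact ho

/-- Non-commuting members are conjugate in the group they generate. -/
theorem conj_within {x y : W} (hx : x ∈ conjugatesOf d) (hy : y ∈ conjugatesOf d) (hc : ¬ Commute x y) :
    ∃ g ∈ Subgroup.closure ({x, y} : Set W), g * x * g⁻¹ = y := by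
  obtain ⟨m, hm⟩ := odd O hx hy hc
  have hxx := E_sq O hx
  have hyy := E_sq O hy
  have hxm : x ∈ Subgroup.closure ({x, y} : Set W) := Subgroup.subset_closure (Or.inl rfl)
  have hym : y ∈ Subgroup.closure ({x, y} : Set W) := Subgroup.subset_closure (Or.inr rfl)
  refine ⟨x * ((x * y) ^ m)⁻¹, mul_mem hxm (inv_mem (pow_mem (mul_mem hxm hym) m)), ?_⟩
  have h1 : ((x * y) ^ m)⁻¹ * x = x * (x * y) ^ m := (TC23.invert_pow hxx hyy m).symm
  have h2 : (x * y) ^ (m + m) = (x * y)⁻¹ := by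
    refine eq_inv_of_mul_eq_one_left ?_
    rw [← pow_succ, show m + m + 1 = 2 * m + 1 by omega, ← hm, pow_orderOf_eq_one]
  calc x * ((x * y) ^ m)⁻¹ * x * (x * ((x * y) ^ m)⁻¹)⁻¹
      = x * (((x * y) ^ m)⁻¹ * x) * (x * y) ^ m * x⁻¹ := by group
    _ = x * x * ((x * y) ^ m * (x * y) ^ m) * x⁻¹ := by rw [h1]; group
    _ = y := by
      rw [← pow_add, h2, hxx, one_mul, mul_inv_rev, mul_assoc, ← mul_inv_rev, hxx, inv_one, mul_one,
        inv_eq_of_mul_eq_one_right hyy]

/-- An involution centralising a non-member and a member. -/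
theorem exists_between {t e : W} (htt : t * t = 1) (htD : t ∉ conjugatesOf d) (he : e ∈ conjugatesOf d) :
    ∃ u : W, u * u = 1 ∧ u ≠ 1 ∧ Commute u t ∧ Commute u e := by
  have hee := E_sq O he
  rcases Nat.even_or_odd (orderOf (e * t)) with ⟨m, hm⟩ | ⟨m, hm⟩
  · have hn : 0 < orderOf (e * t) := orderOf_pos _
    set u := (e * t) ^ m with hu
    have huu : u * u = 1 := by rw [hu, ← pow_add, ← hm, pow_orderOf_eq_one]
    have hue : Commute e u := by
      show e * u = u * e
      rw [hu, TC23.invert_pow hee htt, ← hu, inv_eq_of_mul_eq_one_right huu]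
    refine ⟨u, huu, fun q => ?_, ?_, hue.symm⟩
    · have := Nat.le_of_dvd (by omega) (orderOf_dvd_of_pow_eq_one q)
      omega
    · have : t = e * (e * t) := by rw [← mul_assoc, hee, one_mul]
      rw [this]
      exact hue.symm.mul_right (by rw [hu]; exact (Commute.refl (e * t)).pow_left m)
  · exfalso
    refine htD ?_
    have h1 := (TC23.invert_pow hee htt m).symm
    have h2 : (e * t) ^ (m + m) = (e * t)⁻¹ := by
      refine eq_inv_of_mul_eq_one_left ?_
      rw [← pow_succ, show m + m + 1 = 2 * m + 1 by omega, ← hm, pow_orderOf_eq_one]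
    have : t = e * ((e * t) ^ m)⁻¹ * e * (e * ((e * t) ^ m)⁻¹)⁻¹ := by
      calc t = e * e * ((e * t) ^ m * (e * t) ^ m) * e⁻¹ := by
            rw [← pow_add, h2, hee, one_mul, mul_inv_rev, mul_assoc, ← mul_inv_rev, hee, inv_one, mul_one,
              inv_eq_of_mul_eq_one_right htt]
        _ = e * (((e * t) ^ m)⁻¹ * e) * (e * t) ^ m * e⁻¹ := by rw [h1]; group
        _ = _ := by group
    rw [this]
    exact E_conj O he _

/-- The members commuting with the centre are conjugate under its centraliser. -/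
theorem z_member {e : W} (he : e ∈ conjugatesOf d) (hc : Commute e (z : W)) :
    ∃ a : ↥G₀, Commute a z ∧ (a : W) * d * (a : W)⁻¹ = e := by
  obtain ⟨g, rfl⟩ := E_rep O he
  have hzz : z * z = 1 := z_sq D
  have std : ∀ v : ↥G₀, Commute d (v : W) → IsConj z v →
      ∃ k : ↥G₀, Commute d (k : W) ∧ v = k * tet X * k⁻¹ := by
    intro v hv hvz
    have h2 : v * v = 1 := by
      obtain ⟨c, rfl⟩ := isConj_iff.1 hvz
      rw [show c * z * c⁻¹ * (c * z * c⁻¹) = c * (z * z) * c⁻¹ by group, hzz]; group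
    have h1 : v ≠ 1 := fun e => z_ne D (isConj_one_left.1 (e ▸ hvz))
    obtain ⟨k, hk, h | h | h⟩ := invol_cases O hv h2 h1
    · exfalso
      exact jj_small O ((isConj_val O).2 (hvz.trans (isConj_iff.2 ⟨k⁻¹, by rw [h]; group⟩)))
    · exfalso
      exact ll_small O abc_ne.2.1 ((isConj_val O).2 (hvz.trans (isConj_iff.2 ⟨k⁻¹, by rw [h]; group⟩)))
    · exact ⟨k, hk, h⟩
  obtain ⟨k0, hk0, e0⟩ := std z O.cz (IsConj.refl z)
  obtain ⟨k, hk, e1⟩ := std (g⁻¹ * z * g) (by
    rw [← ThreeT.commute_conj_iff (g : W)]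
    convert hc using 1
    push_cast
    group) (isConj_iff.2 ⟨g⁻¹, by group⟩)
  refine ⟨g * k * k0⁻¹, mul_inv_eq_iff_eq_mul.1 ?_, ?_⟩
  · conv_lhs => rw [e0]
    rw [show g * k * k0⁻¹ * (k0 * tet X * k0⁻¹) * (g * k * k0⁻¹)⁻¹ = g * (k * tet X * k⁻¹) * g⁻¹ by group, ← e1]
    group
  · push_cast
    rw [show (g : W) * k * (k0 : W)⁻¹ * d * ((g : W) * k * (k0 : W)⁻¹)⁻¹ =
      (g : W) * ((k : W) * ((k0 : W)⁻¹ * d * ((k0 : W)⁻¹)⁻¹) * (k : W)⁻¹) * (g : W)⁻¹ by group,
      ← hk0.inv_right.eq, mul_inv_cancel_right, ← hk.eq, mul_inv_cancel_right]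

/-- The members commuting with the centre have common commuting members. -/
theorem rel_centre {a : ↥G₀} (ha : Commute a z) : Rel d d ((a : W) * d * (a : W)⁻¹) := by
  classical
  set c : ↥HH := ⟨a, mem_centralizer_singleton_iff.2 ha.eq⟩
  obtain ⟨v, hv, hv2, hvb⟩ := perp_small (D.T.r (mk c) v2)
  obtain ⟨hq0, hv0⟩ : qn v = 0 ∧ v ≠ 0 := (singular_iff v).2 (by rw [hv]; rfl)
  obtain ⟨k, hk, horb⟩ := small_kind D.T
  have hvorb : v ∈ D.T.orb ⊤ v2 := (horb v hq0 hv0).2 (Or.inl hv)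
  obtain ⟨q, hq⟩ := D.π_surj v
  have hcomm : ∀ u : Q, herm v (D.π u) = 0 → Commute (val q) (val u) := fun u hu =>
    congrArg val ((D.comm_iff q u).2 (by rw [hq]; exact perp_of_herm hu))
  have hC : val q ∈ X.C := by
    refine X.mem_C.2 ⟨?_, ?_⟩
    · rw [← X.ea]; exact hcomm _ (by rw [X.πa, hv2])
    · rw [← X.eb]; exact hcomm _ (by rw [X.πb, herm_smul_right, hv2, mul_zero])
  have hb : herm v (D.T.r (mk c) (om • v2)) = 0 := by
    rcases D.T.semi (mk c) with h | h
    · rw [D.T.semilinear h, herm_smul_right, hvb, mul_zero]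
    · rw [D.T.semilinear_inv h, herm_smul_right, hvb, mul_zero]
  have hC' : a⁻¹ * val q * a ∈ X.C := by
    have key : ∀ u : Q, herm v (D.T.r (mk c) (D.π u)) = 0 → Commute (a⁻¹ * val q * a) (val u) := fun u hu => by
      rw [← ThreeT.commute_conj_iff a, show a * (a⁻¹ * val q * a) * a⁻¹ = val q by group]
      exact hcomm (MulAut.conjNormal c u) (by rw [D.act]; exact hu)
    refine X.mem_C.2 ⟨?_, ?_⟩
    · rw [← X.ea]; exact key _ (by rw [X.πa, hvb])
    · rw [← X.eb]; exact key _ (by rw [X.πb, hb])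
  have hsmall : IsConj (tt X) (val q) := by
    have hqa : D.π X.qa ∈ D.T.orb ⊤ v2 := by
      rw [X.πa]; simpa only [one_smul] using smul_v2_small D.T (one_ne_zero (α := F4))
    have h := small_conj D hqa (b := q) (hq ▸ hvorb)
    rwa [X.ea] at h
  refine rel_small O hsmall (IsConj.refl d) (isConj_iff.2 ⟨(a : W), rfl⟩) (O.even _ (C_le_M1 X hC)).symm ?_
  have h := (ThreeT.commute_conj_iff (a : W) _ _).2 (O.even _ (C_le_M1 X hC')).symm
  rwa [show (a : W) * ((a⁻¹ * val q * a : ↥G₀) : W) * (a : W)⁻¹ = ((val q : ↥G₀) : W) from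
    congrArg Subtype.val (show a * (a⁻¹ * val q * a) * a⁻¹ = val q by group)] at h

/-- Two members commuting with an inner involution have a common commuting member. -/
theorem rel_inner {u : ↥G₀} (h2 : u * u = 1) (h1 : u ≠ 1) {x y : W} (hx : x ∈ conjugatesOf d)
    (hy : y ∈ conjugatesOf d) (hux : Commute (u : W) x) (huy : Commute (u : W) y) : Rel d x y := by
  obtain ⟨g, rfl⟩ := E_rep O hx
  have hv : Commute d ((g⁻¹ * u * g : ↥G₀) : W) := by
    rw [← ThreeT.commute_conj_iff (g : W)]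
    convert hux.symm using 1
    push_cast
    group
  obtain ⟨k, -, h⟩ := invol_cases O hv
    (by rw [show g⁻¹ * u * g * (g⁻¹ * u * g) = g⁻¹ * (u * u) * g by group, h2]; group)
    (fun e => h1 (by rw [show u = g * (g⁻¹ * u * g) * g⁻¹ by group, e]; group))
  have hconj : ∀ s, g⁻¹ * u * g = k * s * k⁻¹ → IsConj s u := fun s hs =>
    (isConj_iff.2 ⟨k, hs.symm⟩).trans (isConj_iff.2 ⟨g, by group⟩)
  rcases h with h | h | h
  · exact rel_small O (hconj _ h) hx hy hux huy
  · exact rel_small O ((isConj_bc O).trans (hconj _ h)) hx hy hux huy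
  obtain ⟨c, hc⟩ := isConj_iff.1 ((tet_z O).trans (hconj _ h))
  have hz : ∀ e, Commute (u : W) e → Commute ((c : W)⁻¹ * e * (c : W)⁻¹⁻¹) (z : W) := fun e he => by
    rw [← ThreeT.commute_conj_iff (c : W)]
    convert he.symm using 1
    · group
    · exact congrArg Subtype.val hc
  obtain ⟨a, ha, ea⟩ := z_member O (E_conj O hx (c : W)⁻¹) (hz _ hux)
  obtain ⟨b, hb, eb⟩ := z_member O (E_conj O hy (c : W)⁻¹) (hz _ huy)
  refine Rel.of_conj (g := (c : W)⁻¹) ?_
  rw [← ea, ← eb]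
  have := (rel_centre O (ha.inv_left.mul_left hb : Commute (a⁻¹ * b) z)).conj (a : W)
  rwa [show (a : W) * (((a⁻¹ * b : ↥G₀) : W) * d * ((a⁻¹ * b : ↥G₀) : W)⁻¹) * (a : W)⁻¹ =
    (b : W) * d * (b : W)⁻¹ by push_cast; group] at this

/-- An outer involution commuting with a member. -/
theorem outer_cases {v : W} (hv : v ∉ G₀) (h2 : v * v = 1) {x : W} (hx : x ∈ conjugatesOf d) (hc : Commute v x) :
    v ∈ conjugatesOf d ∨ ∃ g : W, v = g * (d * ll X ptB ptC) * g⁻¹ ∨ v = g * (d * (tet X : W)) * g⁻¹ := by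
  obtain ⟨g, rfl⟩ := isConj_iff.1 hx
  set v' := g⁻¹ * v * g with hv'def
  have hv' : v = g * v' * g⁻¹ := by rw [hv'def]; group
  have hvd : Commute d v' := by
    rw [← ThreeT.commute_conj_iff g, ← hv']; exact hc.symm
  set u : ↥G₀ := ⟨d * v', d_mul_mem O (by simpa using conj_notMem O g⁻¹ hv)⟩
  by_cases hu : u = 1
  · left
    have e : d * v' = 1 := congrArg Subtype.val hu
    rw [hv', ← d_mul_d O v', e, mul_one]
    exact isConj_iff.2 ⟨g, rfl⟩
  have hu2 : u * u = 1 := Subtype.ext (by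
    show d * v' * (d * v') = 1
    rw [hvd.symm.mul_mul_mul_comm d v', O.sq, one_mul, hv'def,
      show g⁻¹ * v * g * (g⁻¹ * v * g) = g⁻¹ * (v * v) * g by group, h2]
    group)
  obtain ⟨k, hk, h⟩ := invol_cases O (v := u) ((Commute.refl d).mul_right hvd) hu2 hu
  have key : ∀ s : ↥G₀, u = k * s * k⁻¹ → v = g * k * (d * (s : W)) * (g * k)⁻¹ := fun s hs => by
    rw [hv', ← d_mul_d O v', show d * v' = (k : W) * (s : W) * (k : W)⁻¹ from congrArg Subtype.val hs,
      show g * k * (d * (s : W)) * (g * k)⁻¹ = g * (((k : W) * d * (k : W)⁻¹) * ((k : W) * (s : W) * (k : W)⁻¹)) * g⁻¹ by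
        group, ← hk.eq, mul_inv_cancel_right]
  rcases h with h | h | h
  · left
    rw [key _ h]
    exact E_conj O (d_jj_mem O) _
  · exact Or.inr ⟨_, Or.inl (key _ h)⟩
  · exact Or.inr ⟨_, Or.inr (key _ h)⟩

/-- The two sorts of members commuting with an outer involution. -/
theorem two_sorts {v : W} (hv : v ∉ G₀) (h2 : v * v = 1) (hvE : v ∉ conjugatesOf d) {x : W}
    (hx : x ∈ conjugatesOf d) (hc : Commute v x) :
    ∃ x1 ∈ conjugatesOf d, ∃ x2 ∈ conjugatesOf d, Commute v x1 ∧ Commute v x2 ∧ IsConj (z : W) (x1 * v) ∧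
      ¬ IsConj (z : W) (x2 * v) := by
  obtain ⟨n1, n2, n3⟩ := abc_ne
  obtain ⟨e1, e2, e3⟩ := ptE_ne
  have tr : ∀ (g v0 : W) (x1 x2 : W), x1 ∈ conjugatesOf d → x2 ∈ conjugatesOf d → Commute v0 x1 → Commute v0 x2 →
      IsConj (z : W) (x1 * v0) → ¬ IsConj (z : W) (x2 * v0) →
      ∃ x1 ∈ conjugatesOf d, ∃ x2 ∈ conjugatesOf d, Commute (g * v0 * g⁻¹) x1 ∧ Commute (g * v0 * g⁻¹) x2 ∧
        IsConj (z : W) (x1 * (g * v0 * g⁻¹)) ∧ ¬ IsConj (z : W) (x2 * (g * v0 * g⁻¹)) := by
    intro g v0 x1 x2 h1 h2 c1 c2 z1 z2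
    refine ⟨_, E_conj O h1 g, _, E_conj O h2 g, (ThreeT.commute_conj_iff g _ _).2 c1,
      (ThreeT.commute_conj_iff g _ _).2 c2, z1.trans (isConj_iff.2 ⟨g, by group⟩),
      fun q => z2 (q.trans (isConj_iff.2 ⟨g⁻¹, by group⟩))⟩
  have hcd : ∀ a : ↥G₀, a ∈ A0 D → ∀ p, Commute (d * (a : W)) (wp X d p) := fun a ha p =>
    ((Commute.refl d).mul_right (commute_ll O ptA p)).mul_left
      ((commute_A0 O ha).symm.mul_right (congrArg Subtype.val (X.comm ha (X.lab_A0 ptA p)).eq :))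
  rcases (outer_cases O hv h2 hx hc).resolve_left hvE with ⟨g, rfl | rfl⟩
  · refine tr g _ (wp X d ptE) (wp X d ptA) (wp_mem O _) (wp_mem O _) (hcd _ (X.lab_A0 _ _) _)
      (hcd _ (X.lab_A0 _ _) _) ?_ ?_
    · rw [wp, show d * ll X ptA ptE * (d * ll X ptB ptC) = d * (ll X ptA ptE * d) * ll X ptB ptC by group,
        ← (commute_ll O _ _).eq, d_mul_d O]
      exact G₀.subtype.map_isConj (X.four_z
        (by simp [Finset.card_insert_of_notMem, n1, n2, n3, e1.symm, e2, e3]))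
    · rw [wp_A O, d_mul_d O]
      exact ll_small O n2
  · have ht : tet X ∈ A0 D := mul_mem (X.lab_A0 _ _) (X.lab_A0 _ _)
    refine tr g _ (wp X d ptA) (wp X d ptB) (wp_mem O _) (wp_mem O _) (hcd _ ht _) (hcd _ ht _) ?_ ?_
    · rw [wp_A O, d_mul_d O]
      exact (isConj_val O).2 (tet_z O)
    · rw [wp, show d * ll X ptA ptB * (d * (tet X : W)) = d * (ll X ptA ptB * d) * (tet X : W) by group,
        ← (commute_ll O _ _).eq, d_mul_d O, tet, Subgroup.coe_mul, ← mul_assoc, ll_trans, ll_symm X ptA ptC,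
        ll_trans]
      exact ll_small O e3.symm

/-- Members of different sorts above an involution commute. -/
theorem separate {u : W} (a : W) (ha : a ∈ conjugatesOf d) (b : W) (hb : b ∈ conjugatesOf d) (hua : Commute u a)
    (hub : Commute u b) (za : IsConj (z : W) (a * u)) (zb : ¬ IsConj (z : W) (b * u)) : Commute a b := by
  by_contra hab
  obtain ⟨g, hg, e⟩ := conj_within O ha hb hab
  have hgu : Commute u g := ((mem_centralizer_singleton_iff).1 ((Subgroup.closure_le _).2 (by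
    rintro w (rfl | rfl)
    exacts [mem_centralizer_singleton_iff.2 hua.symm.eq, mem_centralizer_singleton_iff.2 hub.symm.eq]) hg)).symm
  refine zb (za.trans (isConj_iff.2 ⟨g, ?_⟩))
  rw [show g * (a * u) * g⁻¹ = g * a * g⁻¹ * (g * u * g⁻¹) by group, e, ← hgu.eq, mul_inv_cancel_right]

/-- Two members commuting with an involution have a common commuting member. -/
theorem cross {u x y : W} (h2 : u * u = 1) (h1 : u ≠ 1) (hx : x ∈ conjugatesOf d) (hy : y ∈ conjugatesOf d)
    (hux : Commute u x) (huy : Commute u y) : Rel d x y := by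
  by_cases hu : u ∈ G₀
  · exact rel_inner O (u := ⟨u, hu⟩) (Subtype.ext h2) (fun e => h1 (congrArg Subtype.val e)) hx hy hux huy
  by_cases huE : u ∈ conjugatesOf d
  · exact ⟨u, huE, hux, huy⟩
  obtain ⟨x1, hx1, x2, hx2, c1, c2, z1, z2⟩ := two_sorts O hu h2 huE hx hux
  by_cases zx : IsConj (z : W) (x * u)
  · by_cases zy : IsConj (z : W) (y * u)
    · exact ⟨x2, hx2, (separate O x hx x2 hx2 hux c2 zx z2).symm, (separate O y hy x2 hx2 huy c2 zy z2).symm⟩
    · exact ⟨x, hx, Commute.refl x, separate O x hx y hy hux huy zx zy⟩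
  · by_cases zy : IsConj (z : W) (y * u)
    · exact ⟨x, hx, Commute.refl x, (separate O y hy x hx huy hux zy zx).symm⟩
    · exact ⟨x1, hx1, separate O x1 hx1 x hx c1 hux z1 zx, separate O x1 hx1 y hy c1 huy z1 zy⟩

end CfsgLib.FiLarge.AutM24
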