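import Cfsg.Agent.FiLarge.AutM24.Graph
import Cfsg.Agent.Fischer.Types
import Cfsg.Agent.Fischer.TwentyThree

/-!
The neighbourhood of the outer involution is of type M(23), so the group is of type M(24).
-/

set_option autoImplicit false
set_option quotPrecheck false
set_option linter.style.haveILetI false
set_option linter.unusedSectionVars false
set_option maxRecDepth 100000

namespace CfsgLib.FiLarge.AutM24

open CfsgLib Subgroup CfsgLib.FiLarge.Thom CfsgLib.FiLarge.U62 CfsgLib.FiLarge.Cent CfsgLib.FiLarge.Aut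
open CfsgLib.ThreeT.Prod (nb)

variable {W : Type*} [Group W] [Finite W] {G₀ : Subgroup W} {z : ↥G₀}
  {Q : Subgroup (centralizer ({z} : Set ↥G₀))} [Q.Normal] {D : Dat z Q}
  {X : Ctx D} {d : W} (O : Out X d)

include O

/-- The group is of type M(24). -/
theorem type24 : Cfsg.IsOfTypeM24 W (conjugatesOf d) := by
  classical
  obtain ⟨t, htj, hfi, h23, -⟩ := exists_typeY O
  have h := fi O
  have hd : d ∈ conjugatesOf d := IsConj.refl d
  have hTY : ∀ y : ↥(Yg G₀ d), y ∈ conjugatesOf t → (y : W) ∈ TY X d := fun y hy =>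
    (mem_TY_iff O htj).2 ⟨y, hy, rfl⟩
  -- the translation onto the neighbourhood
  let ψ : ↥(Yg G₀ d) → W := fun y => d * (y : W)
  have f : Fischer.SIso (conjugatesOf t) (nb (conjugatesOf d) d) ψ := by
    refine ⟨⟨fun y hy => (nb_iff O).2 ⟨_, hTY y hy, rfl⟩, fun a _ b _ e => Subtype.ext (mul_left_cancel e),
      fun x hx => ?_⟩, fun x hx y hy => ?_, fun x hx y hy => ?_⟩
    · obtain ⟨s, hs, rfl⟩ := (nb_iff O).1 hx
      obtain ⟨y, hy, rfl⟩ := (mem_TY_iff O htj).1 hs
      exact ⟨y, hy, rfl⟩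
    · exact (nb_commute_iff O (hTY x hx) (hTY y hy)).trans ⟨fun q => Subtype.ext q.eq, fun q => (congrArg Subtype.val q.eq :)⟩
    · show d * ((x * y * x : ↥(Yg G₀ d)) : W) = d * (x : W) * (d * (y : W)) * (d * (x : W))
      rw [mul_nb O (hTY x hx), Subgroup.coe_mul, Subgroup.coe_mul]
      calc d * ((x : W) * y * x) = d * ((x : W) * y) * x := by group
        _ = (x : W) * y * d * x := by
          rw [((TY_props O (hTY x hx)).2.1.mul_right (TY_props O (hTY y hy)).2.1).eq]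
        _ = (x : W) * y * (d * x) := by group
  let χ : W → ↥(Yg G₀ d) := fun x => if q : d * x ∈ Yg G₀ d then ⟨d * x, q⟩ else 1
  have hχ : ∀ y : ↥(Yg G₀ d), χ (d * (y : W)) = y := fun y => by
    have q : d * (d * (y : W)) ∈ Yg G₀ d := by rw [d_mul_d O]; exact y.2
    simp only [χ, dif_pos q]
    exact Subtype.ext (d_mul_d O _)
  have g : Fischer.SIso (nb (conjugatesOf d) d) (conjugatesOf t) χ := by
    have rep : ∀ x ∈ nb (conjugatesOf d) d, ∃ y ∈ conjugatesOf t, x = ψ y := fun x hx =>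
      let ⟨y, hy, e⟩ := f.bij.surjOn hx; ⟨y, hy, e.symm⟩
    refine ⟨⟨fun x hx => ?_, fun a ha b hb e => ?_, fun y hy => ⟨ψ y, f.bij.mapsTo hy, hχ y⟩⟩,
      fun a ha b hb => ?_, fun a ha b hb => ?_⟩
    · obtain ⟨y, hy, rfl⟩ := rep x hx
      rw [hχ]; exact hy
    · obtain ⟨u, -, rfl⟩ := rep a ha
      obtain ⟨v, -, rfl⟩ := rep b hb
      rw [hχ, hχ] at e
      rw [e]
    · obtain ⟨u, hu, rfl⟩ := rep a ha
      obtain ⟨v, hv, rfl⟩ := rep b hb
      rw [hχ, hχ]
      exact (f.com u hu v hv).symm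
    · obtain ⟨u, hu, rfl⟩ := rep a ha
      obtain ⟨v, hv, rfl⟩ := rep b hb
      rw [← f.conj u hu v hv, hχ, hχ, hχ]
  have hloc : ∀ a ∈ conjugatesOf d, Fischer.T23 (nb (conjugatesOf d) a) := fun a ha => by
    obtain ⟨φ, k⟩ := h.nb_siso ha hd
    exact (h23.comp g).comp k
  have hgood : ∀ a ∈ conjugatesOf d, Fischer.NoTwins (nb (conjugatesOf d) a) ∧
      Fischer.Fi (Fischer.qimg (nb (conjugatesOf d) a)) :=
    Fischer.good_all h hd (f.symm_noTwins hfi.noTwins) (f.edge hfi.width)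
  exact Fischer.type24 h hgood (Fischer.step_t23 h hloc hgood)

end CfsgLib.FiLarge.AutM24
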