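import Cfsg.Agent.FiLarge.Aut.Main
import Cfsg.Agent.FiLarge.AutM24.Frame
import Cfsg.Agent.FiLarge.AutM24.Known23
import Cfsg.Agent.TC23.Main

/-!
The inner centraliser of the outer involution as a group of type M(23), and its classes of involutions.
-/

set_option autoImplicit false
set_option quotPrecheck false
set_option linter.style.haveILetI false
set_option linter.unusedSectionVars false
set_option maxRecDepth 100000

namespace CfsgLib.FiLarge.AutM24

/-- Type M(23) from the centraliser of an involution, with primitivity. -/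
theorem type23_prim {G : Type*} [Group G] [Finite G] (d : G) (hd : orderOf d = 2) (hq : Cfsg.IsQuasisimple (Subgroup.centralizer ({d} : Set G))) [((Subgroup.zpowers d).subgroupOf (Subgroup.centralizer ({d} : Set G))).Normal] (htype : ∃ E : Set ((Subgroup.centralizer ({d} : Set G)) ⧸ (Subgroup.zpowers d).subgroupOf (Subgroup.centralizer ({d} : Set G))), Cfsg.IsThreeTranspositionClass E ∧ Cfsg.IsOfTypeM22 _ E) (hinvol : ∃ d' : (Subgroup.centralizer ({d} : Set G)) ⧸ (Subgroup.zpowers d).subgroupOf (Subgroup.centralizer ({d} : Set G)), orderOf d' = 2 ∧ Cfsg.IsQuasisimple (Subgroup.centralizer ({d'} : Set _)) ∧ (∃ (K : Type) (_ : Field K) (_ : Fintype K), Fintype.card K = 4 ∧ ∃ _ : ((Subgroup.zpowers d').subgroupOf (Subgroup.centralizer ({d'} : Set _))).Normal, Nonempty ((Subgroup.centralizer ({d'} : Set _)) ⧸ (Subgroup.zpowers d').subgroupOf (Subgroup.centralizer ({d'} : Set _)) ≃* Cfsg.PSU 6 K 2)) ∧ ∃ g, g * d' * g⁻¹ ∈ Subgroup.centralizer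 ({d'} : Set _) ∧ g * d' * g⁻¹ ≠ d') (hnwc : ∃ g : G, g * d * g⁻¹ ∈ Subgroup.centralizer ({d} : Set G) ∧ g * d * g⁻¹ ≠ d) : Cfsg.IsThreeTranspositionClass (conjugatesOf d) ∧ Cfsg.IsOfTypeM23 G (conjugatesOf d) ∧ Cfsg.IsPrimitiveUnderConj (conjugatesOf d) := by
  classical
  haveI : Fact (Nat.Prime 2) := ⟨Nat.prime_two⟩
  let Z := (Subgroup.zpowers d).subgroupOf (Subgroup.centralizer ({d} : Set G))
  let ψ : ↥(Subgroup.centralizer ({d} : Set G)) →* ↥(Subgroup.centralizer ({d} : Set G)) ⧸ Z := QuotientGroup.mk' Z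
  have hψ : Function.Surjective ψ := QuotientGroup.mk'_surjective Z
  have hdC : d ∈ (Subgroup.centralizer ({d} : Set G)) := Subgroup.mem_centralizer_singleton_iff.2 rfl
  have hdd : d * d = 1 := by rw [← pow_two, ← hd, pow_orderOf_eq_one]
  obtain ⟨E, hE, h22⟩ := htype
  obtain ⟨e₀, he₀, c₀, hc₀, hnc, -⟩ := h22.2
  have hperf : commutator ↥(Subgroup.centralizer ({d} : Set G)) = ⊤ := hq.1.commutator_eq_top
  have hQperf := CfsgLib.ThreeT.M22Double.perfect_of_surjective ψ hψ hperf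
  haveI hQs : IsSimpleGroup (↥(Subgroup.centralizer ({d} : Set G)) ⧸ Z) := by
    haveI := hq.2
    haveI : Nontrivial (↥(Subgroup.centralizer ({d} : Set G)) ⧸ Z) :=
      ⟨⟨e₀, 1, CfsgLib.ThreeT.ne_one_of_orderOf (hE.1.1 e₀ he₀)⟩⟩
    have hle : Subgroup.center ↥(Subgroup.centralizer ({d} : Set G)) ≤ ψ.ker := fun z hz => by
      rw [MonoidHom.mem_ker, ← Subgroup.mem_bot, ← h22.1, Subgroup.mem_center_iff]
      intro g
      obtain ⟨y, rfl⟩ := hψ g
      rw [← map_mul, ← map_mul, Subgroup.mem_center_iff.1 hz y]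
    exact IsSimpleGroup.isSimpleGroup_of_surjective (QuotientGroup.lift _ ψ hle)
      (QuotientGroup.lift_surjective_of_surjective _ _ hψ hle)
  haveI hsimple : IsSimpleGroup (commutator (↥(Subgroup.centralizer ({d} : Set G)) ⧸ Z)) := by
    rw [hQperf]
    exact IsSimpleGroup.isSimpleGroup_of_surjective
      (Subgroup.topEquiv (G := ↥(Subgroup.centralizer ({d} : Set G)) ⧸ Z)).symm.toMonoidHom
      (Subgroup.topEquiv (G := ↥(Subgroup.centralizer ({d} : Set G)) ⧸ Z)).symm.surjective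
  have hcomm : ¬ ∀ a b : ↥(Subgroup.centralizer ({d} : Set G)) ⧸ Z, a * b = b * a := fun h => hnc (h _ _)
  have hnonab : ∃ x y : commutator (↥(Subgroup.centralizer ({d} : Set G)) ⧸ Z), x * y ≠ y * x :=
    ⟨⟨e₀, hQperf ▸ Subgroup.mem_top _⟩, ⟨c₀, hQperf ▸ Subgroup.mem_top _⟩, fun h => hnc (congrArg Subtype.val h)⟩
  have hsol : ∀ N : Subgroup (↥(Subgroup.centralizer ({d} : Set G)) ⧸ Z), N.Normal → Group.IsSolvable N → N = ⊥ :=
    fun N hN hs => hN.eq_bot_or_eq_top.resolve_right fun h => hcomm (by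
      subst h
      haveI : Group.IsSolvable (↥(Subgroup.centralizer ({d} : Set G)) ⧸ Z) :=
        solvable_of_surjective (f := (Subgroup.topEquiv (G := ↥(Subgroup.centralizer ({d} : Set G)) ⧸ Z)).toMonoidHom)
          (Subgroup.topEquiv (G := ↥(Subgroup.centralizer ({d} : Set G)) ⧸ Z)).surjective
      exact IsSimpleGroup.comm_iff_isSolvable.2 inferInstance)
  have hprim := CfsgLib.ThreeT.primitive_of_connected hE hsol
    (CfsgLib.ThreeT.connected_both hE hsimple hnonab).2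
    ⟨e₀, he₀, c₀, hc₀, fun h => hnc (h ▸ Commute.refl e₀)⟩
  have hg := CfsgLib.ThreeT.Prod.geo22
    ⟨hE.1, fun g a ha => CfsgLib.ThreeT.conj_mem hE ha g, hE.2.2⟩ hprim h22
  let P : CfsgLib.DoubleM22.Cover E ↥(Subgroup.centralizer ({d} : Set G)) :=
    { ψ := ψ
      surj := hψ
      z := ⟨d, hdC⟩
      z_ne := fun h => by
        have h1 : d = 1 := congrArg Subtype.val h
        rw [h1, orderOf_one] at hd
        exact absurd hd (by norm_num)
      ker_iff := fun x => by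
        refine (QuotientGroup.eq_one_iff x).trans ?_
        rw [Subgroup.mem_subgroupOf]
        constructor
        · intro h
          obtain ⟨k, hk⟩ := Subgroup.mem_zpowers_iff.1 h
          rw [← zpow_mod_orderOf, hd] at hk
          rcases Int.emod_two_eq_zero_or_one k with h2 | h2
          · left; exact Subtype.ext (by simpa [h2] using hk.symm)
          · right; exact Subtype.ext (by simpa [h2] using hk.symm)
        · rintro (rfl | rfl)
          · exact one_mem _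
          · exact Subgroup.mem_zpowers d
      central := fun x => Subtype.ext (Subgroup.mem_centralizer_singleton_iff.1 x.2).symm
      perfect := hperf
      geo := hg
      prim := hprim
      type22 := h22 }
  let T : CfsgLib.TC23.Setup d E := ⟨P, rfl, hnwc⟩
  exact ⟨T.class3, T.type23, T.prim⟩

open CfsgLib Subgroup CfsgLib.FiLarge.Thom CfsgLib.FiLarge.U62 CfsgLib.FiLarge.Cent CfsgLib.FiLarge.Aut
open CfsgLib.ThreeT.Prod (Facs Short)

variable {W : Type*} [Group W] [Finite W] {G₀ : Subgroup W} {z : ↥G₀}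
  {Q : Subgroup (centralizer ({z} : Set ↥G₀))} [Q.Normal] {D : Dat z Q}

local notation "NA" => normalizer (A0 D : Set ↥G₀)

/-- The inner centraliser. -/
abbrev Yg (G₀ : Subgroup W) (d : W) : Subgroup W := G₀ ⊓ centralizer ({d} : Set W)

/-- The class of the small involution in the inner centraliser. -/
def TY (X : Ctx D) (d : W) : Set W :=
  {s | ∃ g : ↥G₀, Commute d (g : W) ∧ (g : W) * jj X * (g : W)⁻¹ = s}

/-- The product of the pairs with four points. -/
noncomputable def tet (X : Ctx D) : ↥G₀ := X.L.lab ptB ptC * X.L.lab ptA ptE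

variable {X : Ctx D} {d : W} (O : Out X d)

include O

theorem mem_Yg {x : ↥G₀} (hx : Commute d (x : W)) : (x : W) ∈ Yg G₀ d :=
  mem_inf.2 ⟨x.2, mem_centralizer_singleton_iff.2 hx.eq.symm⟩

/-- The class of the small involution in the inner centraliser is of type M(23). -/
theorem exists_typeY : ∃ t : ↥(Yg G₀ d), (t : W) = jj X ∧ Fischer.Fi (conjugatesOf t) ∧
    Fischer.T23 (conjugatesOf t) ∧ (∀ v : ↥(Yg G₀ d), v * v = 1 → v ≠ 1 → Short (conjugatesOf t) v) ∧
    ∀ i : ℕ, 1 ≤ i → i ≤ 3 → ∀ x y : ↥(Yg G₀ d), Facs (conjugatesOf t) i x → Facs (conjugatesOf t) i y →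
      IsConj x y := by
  classical
  obtain ⟨t, ht, htj, hqs, ⟨hn, ⟨e⟩⟩, hnwc⟩ := Aut.m23_of X O.even O.only O.move
  haveI := hn
  obtain ⟨h1, h2, hp⟩ := type23_prim t ht hqs (fi22_class_exists e) (fi22_invol e) hnwc
  have hg : Cfsg.IsThreeTranspositionGroup (conjugatesOf t) :=
    ⟨h1.1, fun g x hx => ThreeT.conj_mem h1 hx g, h1.2.2⟩
  obtain ⟨d', P⟩ := ThreeT.Prod.exists_point23 hg hp h2
  obtain ⟨b, hb⟩ : (ThreeT.Prod.nb (conjugatesOf t) d').Nonempty :=
    Set.nonempty_of_ncard_ne_zero (by rw [((ThreeT.Prod.pre23 P).loc d' P.mem).card_nb]; norm_num)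
  refine ⟨t, htj, ⟨h1, P.base.center, hp, d', P.mem, b, hb.1, hb.2.1.symm, hb.2.2⟩, t23_of_type hg hp h2,
    fun v hv hv1 => ThreeT.Prod.invol_short23 P hg hp h2
      (orderOf_eq_prime (by rw [pow_two]; exact hv) hv1),
    fun i hi hi' x y hx hy => ThreeT.Level.facs_conj (ThreeT.Prod.geo23 P) ThreeT.Prod.arith23 hi hi' hx hy⟩

theorem mem_TY_iff {t : ↥(Yg G₀ d)} (ht : (t : W) = jj X) {s : W} :
    s ∈ TY X d ↔ ∃ y ∈ conjugatesOf t, (y : W) = s := by
  constructor
  · rintro ⟨g, hg, rfl⟩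
    refine ⟨⟨(g : W), mem_Yg O hg⟩ * t * ⟨(g : W), mem_Yg O hg⟩⁻¹, isConj_iff.2 ⟨_, rfl⟩, ?_⟩
    show (g : W) * (t : W) * (g : W)⁻¹ = _
    rw [ht]
  · rintro ⟨y, hy, rfl⟩
    obtain ⟨g, rfl⟩ := isConj_iff.1 hy
    obtain ⟨h1, h2⟩ := mem_inf.1 g.2
    refine ⟨⟨(g : W), h1⟩, (mem_centralizer_singleton_iff.1 h2).symm, ?_⟩
    show (g : W) * jj X * (g : W)⁻¹ = (g : W) * (t : W) * (g : W)⁻¹
    rw [ht]

/-- The involutions of the inner centraliser. -/
theorem invol_cases {v : ↥G₀} (hv : Commute d (v : W)) (h2 : v * v = 1) (h1 : v ≠ 1) :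
    ∃ g : ↥G₀, Commute d (g : W) ∧ (v = g * tt X * g⁻¹ ∨ v = g * X.L.lab ptB ptC * g⁻¹ ∨
      v = g * tet X * g⁻¹) := by
  classical
  obtain ⟨t, htj, -, -, hshort, hconj⟩ := exists_typeY O
  obtain ⟨n1, n2, n3⟩ := abc_ne
  obtain ⟨e1, e2, e3⟩ := ptE_ne
  let u : Cfsg.GolayPt → ↥(Yg G₀ d) := fun p => ⟨ll X ptA p, mem_Yg O (commute_ll O ptA p)⟩
  have hu : ∀ p, p ≠ ptA → u p ∈ conjugatesOf t := by
    intro p hp
    obtain ⟨k, k1, k2⟩ := fix_move X n1.symm hp
    refine isConj_iff.2 ⟨⟨((k : ↥G₀) : W), mem_Yg O ((commute_iff_fix O).2 k1)⟩, Subtype.ext ?_⟩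
    show ((k : ↥G₀) : W) * (t : W) * ((k : ↥G₀) : W)⁻¹ = ll X ptA p
    rw [htj]
    exact (ll_conj X k ptA ptB).trans (by rw [k1, k2])
  have hinj : ∀ p q, u p = u q → p = q := fun p q e => by
    have e' : ll X ptA p = ll X ptA q := (congrArg Subtype.val e :)
    by_contra hne
    refine ll_ne_one X hne ?_
    rw [← ll_trans X p ptA q, ll_symm X p ptA, e', ll_sq]
  have hcu : ∀ p q, Commute (u p) (u q) := fun p q => Subtype.ext (ll_comm X ptA p ptA q).eq
  have mk : ∀ l : List Cfsg.GolayPt, l.Nodup → (∀ p ∈ l, p ≠ ptA) →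
      Facs (conjugatesOf t) l.length (l.map u).prod := fun l hl hA => by
    refine ⟨l.map u, hl.map fun p q => hinj p q, List.length_map .., ?_, ?_, rfl⟩
    · simp only [List.mem_map]
      rintro _ ⟨p, hp, rfl⟩
      exact hu p (hA p hp)
    · simp only [List.mem_map]
      rintro _ ⟨p, -, rfl⟩ _ ⟨q, -, rfl⟩
      exact hcu p q
  set v' : ↥(Yg G₀ d) := ⟨(v : W), mem_Yg O hv⟩
  obtain ⟨i, hi, hi', hF⟩ := hshort v' (Subtype.ext (congrArg Subtype.val h2 :))
    (fun e => h1 (Subtype.ext (congrArg Subtype.val e :)))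
  have out : ∀ (s : ↥(Yg G₀ d)) (s₀ : ↥G₀), (s : W) = (s₀ : W) → IsConj s v' →
      ∃ g : ↥G₀, Commute d (g : W) ∧ v = g * s₀ * g⁻¹ := by
    intro s s₀ hs hc
    obtain ⟨g, hg⟩ := isConj_iff.1 hc
    obtain ⟨g1, g2⟩ := mem_inf.1 g.2
    refine ⟨⟨(g : W), g1⟩, (mem_centralizer_singleton_iff.1 g2).symm, Subtype.ext ?_⟩
    show (v : W) = (g : W) * (s₀ : W) * (g : W)⁻¹
    rw [← hs]
    exact (congrArg Subtype.val hg).symm
  interval_cases i
  · obtain ⟨g, hg, h⟩ := out _ (tt X) (by simp [u]) (hconj 1 le_rfl (by norm_num) _ _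
      (mk [ptB] (by simp) (by simp [n1.symm])) hF)
    exact ⟨g, hg, Or.inl h⟩
  · obtain ⟨g, hg, h⟩ := out _ (X.L.lab ptB ptC) (by
        simp only [u, List.map_cons, List.map_nil, List.prod_cons, List.prod_nil, mul_one, Subgroup.coe_mul]
        rw [ll_symm X ptA ptB, ll_trans]) (hconj 2 (by norm_num) (by norm_num) _ _
      (mk [ptB, ptC] (by simp [n2]) (by simp [n1.symm, n3.symm])) hF)
    exact ⟨g, hg, Or.inr (Or.inl h)⟩
  · obtain ⟨g, hg, h⟩ := out _ (tet X) (by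
        simp only [u, List.map_cons, List.map_nil, List.prod_cons, List.prod_nil, mul_one, Subgroup.coe_mul]
        rw [← mul_assoc, ll_symm X ptA ptB, ll_trans, tet, Subgroup.coe_mul]) (hconj 3 (by norm_num) le_rfl _ _
      (mk [ptB, ptC, ptE] (by simp [n2, e2.symm, e3.symm]) (by simp [n1.symm, n3.symm, e1])) hF)
    exact ⟨g, hg, Or.inr (Or.inr h)⟩

end CfsgLib.FiLarge.AutM24
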